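import Cfsg.Agent.H169.RM.Joint
import Cfsg.Agent.H571.RM.RowS

/-!
# S3849: `CenB`, an `s`-subgroup centralising the abelian groups it normalises (helper169)

* `cen_of_chkF` : the JOINT EIG engine;
* `cenB_fun` : the same with the shape of helper167's `toral_fun'`;
* `rowM_of_cenB`.
-/

set_option autoImplicit false
set_option linter.unusedSectionVars false

namespace Cfsg.Agent.H169.RM

open CoxeterSystem Cfsg Cfsg.Lie Cfsg.Lie.ChevalleyDatum
open Cfsg.Agent.ChevalleyStructure Cfsg.Agent.ChevalleyStructure.Elts Cfsg.Agent.ChevalleyStructure.CoxeterGeom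
  Cfsg.Agent.ChevalleyStructure.CoxeterGeomTypes Cfsg.Agent.ChevalleyStructure.NPerm
open Cfsg.Agent.Tits.Roots Cfsg.Agent.Tits.Core Cfsg.Agent.Nodes Cfsg.Agent.Nodes.Reps Cfsg.Agent.Nodes.BNOf
  Cfsg.Agent.Nodes.RGDChev Cfsg.Agent.Nodes.Bruhat
open Cfsg.Agent.KFacts.RgdField Cfsg.Agent.KFacts.RgdChevCoord Cfsg.Agent.BpExc.TorCent Cfsg.Agent.BpExc.TorChev
open Cfsg.Agent.GpExc.Field Cfsg.Agent.BpExc.Tow Cfsg.Agent.BpExc.TowChev Cfsg.Agent.BpExc.Fr
  Cfsg.Agent.BpExc.LangFr Cfsg.Agent.H129.TorusChar Cfsg.Agent.H129.TorusMain Cfsg.Agent.H123.ExcZ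
open Cfsg.Agent.BpExc Cfsg.Agent.H795.LangT Cfsg.Agent.H795.Core Cfsg.Agent.H795.NotAbT
open Cfsg.Agent.H572.ExcA Cfsg.Agent.H572.ExcB Cfsg.Agent.H572.ExcC Cfsg.Agent.H572.ExcD
open Cfsg.Agent.H565.CharCnt Cfsg.Agent.H167.RV Cfsg.Agent.H167.EX Cfsg.Agent.H512.LinFour.IdealF
open Subgroup

universe u v

section engine

variable {D : ChevalleyDatum} {l : ℕ} {M : CoxeterMatrix (Fin l)} (hp : IsType D l M) {k : Type u} [Field k]

/-- **the JOINT EIG engine** -/
theorem cen_of_chkF [IsAlgClosed k] (p : ℕ) [Fact p.Prime] [CharP k p] (hk : LocFin k) {s : ℕ} (hsp : s.Prime)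
    (hsk : (s : k) ≠ 0) {ζ : k} (hζ : IsPrimitiveRoot ζ s) {d₀ : ℕ} {Bi : Fin l → Fin l → ℤ} (hB : InvC D l d₀ Bi)
    (hd₀ : d₀ ≠ 0) (L : Lac D) {m : ℕ} {e : Fin m → ℕ → ℤ} (K : ChkF D l s e)
    {G : Type v} [Group G] [Finite G] (f : G →* ↥(D.group k)) (hf : Function.Injective f) {y : Fin m → G}
    (hyT : ∀ j, f (y j) ∈ TT D k) (hys : ∀ j, y j ^ s = 1)
    (hch : ∀ j, ∀ b < D.nroots, ch hp (vec D l b) (f (y j)) = ζ ^ e j b) {A : Subgroup G}
    (hA : ∀ a ∈ A, ∀ b ∈ A, a * b = b * a) (hAs : ¬ s ∣ Nat.card A) (hAp : ¬ p ∣ Nat.card A)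
    (hYA : closure (Set.range y) ≤ normalizer (A : Set G)) :
    ∀ b ∈ closure (Set.range y), ∀ a ∈ A, b * a = a * b := by
  have hfs : Fact s.Prime := ⟨hsp⟩
  have hYT := TT_of_closure hyT
  set Y := closure (Set.range y) with hY
  have hyY : ∀ j, y j ∈ Y := fun j => subset_closure ⟨j, rfl⟩
  have hYc : ∀ a ∈ Y, ∀ b ∈ Y, a * b = b * a := by
    intro a ha b hb
    apply hf
    rw [map_mul, map_mul]
    exact TT_comm hp _ (hYT a ha) _ (hYT b hb)
  have hYs : ∀ a ∈ Y, a ^ s = 1 := by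
    intro a ha
    refine closure_induction (p := fun a _ => a ^ s = 1) ?_ (one_pow _) ?_ ?_ ha
    · rintro _ ⟨j, rfl⟩
      exact hys j
    · intro a b ha hb h1 h2
      have hc : Commute a b := hYc a ha b hb
      rw [hc.mul_pow, h1, h2, one_mul]
    · intro a _ h1
      rw [inv_pow, h1, inv_one]
  by_cases hY1 : Y = ⊥
  · intro b hb a _
    rw [hY1, mem_bot] at hb
    rw [hb, one_mul, mul_one]
  have hYe : IsElementaryAbelian s Y := ⟨⟨⟨fun a b => Subtype.ext (hYc a a.2 b b.2)⟩⟩, fun a ha => hYs a ha⟩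
  have hsup := Cfsg.Agent.Lib.CoprimeHyperplane.iSup_centralizer_hyperplane (p := s) hYe hY1 hAs hYA
  have hmain : (⨆ B : {B : Subgroup G // B ≤ Y ∧ B.relIndex Y = s},
      A ⊓ centralizer ((B : Subgroup G) : Set G)) ≤ centralizer (Y : Set G) := by
    refine iSup_le ?_
    rintro ⟨B, hBY, hBi⟩
    simp only
    set C : Subgroup G := A ⊓ centralizer (B : Set G) with hCdef
    have hCA : C ≤ A := inf_le_left
    have hCB : ∀ a ∈ C, ∀ b ∈ B, a * b = b * a := fun a ha b hb => (mem_centralizer_iff.1 ha.2 b hb).symm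
    obtain ⟨y₀, hy₀, hy₀B⟩ : ∃ y₀ ∈ Y, y₀ ∉ B := by
      by_contra hcon
      push Not at hcon
      have h1 : B.relIndex Y = 1 := relIndex_eq_one.2 hcon
      rw [h1] at hBi
      exact hsp.one_lt.ne hBi
    -- `Y = B ⟨y₀⟩`
    have hYB : ∀ a ∈ Y, ∃ β ∈ B, ∃ c : ℤ, a = β * y₀ ^ c := by
      have h1 : B ⊔ zpowers y₀ ≤ Y := sup_le hBY (zpowers_le.2 hy₀)
      have h2 : B.relIndex (B ⊔ zpowers y₀) * (B ⊔ zpowers y₀).relIndex Y = s := by
        rw [relIndex_mul_relIndex _ _ _ le_sup_left h1, hBi]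
      have h3 : B.relIndex (B ⊔ zpowers y₀) ≠ 1 := by
        intro h
        rw [relIndex_eq_one] at h
        exact hy₀B (h (mem_sup_right (mem_zpowers _)))
      have h4 : (B ⊔ zpowers y₀).relIndex Y = 1 := by
        rcases (Nat.dvd_prime hsp).1 (Dvd.intro _ h2) with h | h
        · exact absurd h h3
        · rw [h] at h2
          exact Nat.eq_of_mul_eq_mul_left hsp.pos (h2.trans (mul_one s).symm)
      rw [relIndex_eq_one] at h4
      intro a ha
      have hn : zpowers y₀ ≤ normalizer (B : Set G) := by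
        rw [zpowers_le, mem_normalizer_iff]
        intro x
        constructor
        · intro hx
          rw [hYc _ hy₀ x (hBY hx), mul_inv_cancel_right]
          exact hx
        · intro hx
          have h5 := hYc _ hy₀ _ (hBY hx)
          have h6 : y₀ * x = x * y₀ → y₀ * x * y₀⁻¹ = x := fun h => by rw [h, mul_inv_cancel_right]
          have h7 : y₀ * (y₀ * x * y₀⁻¹) = y₀ * x := by rw [h5, inv_mul_cancel_right]
          have h8 : y₀ * x * y₀⁻¹ = x := mul_left_cancel h7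
          rwa [h8] at hx
      have h5 : a ∈ ((B ⊔ zpowers y₀ : Subgroup G) : Set G) := h4 ha
      rw [coe_mul_of_right_le_normalizer_left _ _ hn] at h5
      obtain ⟨β, hβ, z, hz, rfl⟩ := h5
      obtain ⟨c, rfl⟩ := mem_zpowers_iff.1 hz
      exact ⟨β, hβ, c, rfl⟩
    choose β hβ ψ hjψ using fun j => hYB (y j) (hyY j)
    have hψ : ∃ j, ¬ (s : ℤ) ∣ ψ j := by
      by_contra hcon
      push Not at hcon
      have h1 : Y ≤ B := by
        rw [hY, closure_le]
        rintro _ ⟨j, rfl⟩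
        obtain ⟨c, hc⟩ := hcon j
        have h2 : y₀ ^ ψ j = 1 := by
          rw [hc, zpow_mul, zpow_natCast, hYs y₀ hy₀, one_zpow]
        have h3 := hjψ j
        rw [h2, mul_one] at h3
        rw [h3]
        exact hβ j
      exact hy₀B (h1 hy₀)
    have hCcard : Nat.card C ∣ Nat.card A := card_dvd_of_le hCA
    have hyC : ∀ a ∈ C, y₀ * a * y₀⁻¹ ∈ C := by
      intro a ha
      refine ⟨(mem_normalizer_iff.1 (hYA hy₀) a).1 ha.1, ?_⟩
      refine mem_centralizer_iff.2 fun b hb => ?_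
      have h1 : a * b = b * a := hCB a ha b hb
      have h2 := hYc b (hBY hb) y₀ hy₀
      have h3 := hYc b (hBY hb) y₀⁻¹ (inv_mem hy₀)
      calc b * (y₀ * a * y₀⁻¹) = (b * y₀) * a * y₀⁻¹ := by group
        _ = y₀ * (b * a) * y₀⁻¹ := by rw [h2]; group
        _ = y₀ * a * (b * y₀⁻¹) := by rw [← h1]; group
        _ = y₀ * a * y₀⁻¹ * b := by rw [h3]; group
    have key := step_hyp hp p hk hsp hsk hζ hB hd₀ L K f hf hyT hch (B₀ := B) hBY (fun b hb => hYs b (hBY hb))
      (y₀ := y₀) hy₀ (hYs y₀ hy₀) hβ hjψ hψ (C := C) (fun a ha b hb => hA a (hCA ha) b (hCA hb)) (by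
        rw [Ne, CharP.cast_eq_zero_iff k p]
        exact fun h => hAp (h.trans hCcard)) (fun h => hAs (h.trans hCcard)) hyC hCB
    intro a ha
    rw [mem_centralizer_iff]
    intro b hb
    obtain ⟨b', hb', c, rfl⟩ := hYB b hb
    have h1 : Commute y₀ a := key a ha
    have h2 : Commute b' a := (hCB a ha b' hb').symm
    exact (h2.mul_left (h1.zpow_left c)).eq
  rw [hsup] at hmain
  intro b hb a ha
  exact mem_centralizer_iff.1 (hmain ha) b hb

end engine

/-- an `s`-subgroup `≠ 1` which centralises the abelian subgroups of order prime to `s p` it normalises -/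
def CenB (s p : ℕ) (G : Type*) [Group G] : Prop :=
  ∃ B : Subgroup G, B ≠ ⊥ ∧ IsPGroup s B ∧ ∀ A : Subgroup G, (∀ a ∈ A, ∀ b ∈ A, a * b = b * a) →
    ¬ s ∣ Nat.card A → ¬ p ∣ Nat.card A → B ≤ normalizer (A : Set G) → ∀ b ∈ B, ∀ a ∈ A, b * a = a * b

theorem CenB.of_equiv {s p : ℕ} {G : Type u} [Group G] {G' : Type v} [Group G'] (e : G ≃* G')
    (h : CenB s p G') : CenB s p G := by
  obtain ⟨B, h1, h2, h3⟩ := h
  have hmem : ∀ y ∈ B, e.symm y ∈ B.comap e.toMonoidHom := by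
    intro y hy
    show e (e.symm y) ∈ B
    rw [e.apply_symm_apply]
    exact hy
  refine ⟨B.comap e.toMonoidHom, ?_, h2.comap_of_injective e.toMonoidHom e.injective, ?_⟩
  · intro h
    apply h1
    rw [eq_bot_iff]
    intro y hy
    have h6 := hmem y hy
    rw [h, mem_bot] at h6
    rw [mem_bot, ← e.apply_symm_apply y, h6, map_one]
  · intro A hA hs hpA hn b hb a ha
    have hcard : Nat.card (A.map e.toMonoidHom) = Nat.card A := card_map_of_injective e.injective
    have key := h3 (A.map e.toMonoidHom) (by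
      rintro _ ⟨x, hx, rfl⟩ _ ⟨y, hy, rfl⟩
      show e x * e y = e y * e x
      rw [← map_mul, hA x hx y hy, map_mul]) (by rwa [hcard]) (by rwa [hcard]) (by
      intro c hc
      rw [mem_normalizer_iff]
      intro x
      have h4 := mem_normalizer_iff.1 (hn (hmem c hc)) (e.symm x)
      have h5 : ∀ z : G', z ∈ A.map e.toMonoidHom ↔ e.symm z ∈ A := by
        intro z
        constructor
        · rintro ⟨w, hw, rfl⟩
          show e.symm (e w) ∈ A
          rwa [e.symm_apply_apply]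
        · intro hz
          exact ⟨e.symm z, hz, e.apply_symm_apply z⟩
      rw [h5, h5, map_mul, map_mul, map_inv]
      exact h4) (e b) hb (e a) ⟨a, ha, rfl⟩
    apply e.injective
    rw [map_mul, map_mul]
    exact key

section Emb

variable {D : ChevalleyDatum} {l : ℕ} {M : CoxeterMatrix (Fin l)} {hp : IsType D l M}
  {k : Type u} [Field k] [IsAlgClosed k] {r e : ℕ} [Fact r.Prime] [CharP k r]
  {G : Type v} [Group G] {κ : G →* ↥(D.group k)} {τ : MulAut ↥(D.group k)}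
  {θ : (Fin l → ℤ) ≃+ (Fin l → ℤ)}

/-- **`CenB` from functionals on the root lattice**, the shape of helper167's `toral_fun'` -/
theorem cenB_fun [Finite G] (hk : LocFin k) (h : Emb hp r e κ τ θ) {d : ℕ} {Bi : Fin l → Fin l → ℤ}
    (hB : InvC D l d Bi) (hd : d ≠ 0) {s : ℕ} (hmem : ∀ y, τ y = y → y ^ s = 1 → ∃ x, κ x = y) [hs : Fact s.Prime]
    (hsr : s ≠ r) (L : Lac D) {m : ℕ} (Nf : Fin m → Fin l → ℤ)
    (hN : ∀ j x, (s : ℤ) ∣ (∑ i, Nf j i * (θ x) i) - (r : ℤ) ^ e * ∑ i, Nf j i * x i)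
    (K : ChkF D l s (fun j b => ∑ i, Nf j i * vec D l b i))
    (h1 : ∃ j, ∃ b < D.nroots, ¬ (s : ℤ) ∣ ∑ i, Nf j i * vec D l b i) : CenB s r G := by
  obtain ⟨ζ, hζ⟩ := exists_zeta_pow (k := k) (r := r) (s := s) (a := 1) hsr
  rw [pow_one] at hζ
  have hNz : NeZero s := ⟨hs.out.ne_zero⟩
  have hsk : (s : k) ≠ 0 := by
    rw [Ne, CharP.cast_eq_zero_iff k r, Nat.prime_dvd_prime_iff_eq Fact.out hs.out]
    exact fun h => hsr h.symm
  have h2 : ∀ j, ∃ a ∈ TG κ, a ^ s = 1 ∧ ∀ x, cX hp (κ a) x = ζ ^ (∑ i, Nf j i * x i) := by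
    intro j
    let c : (Fin l → ℤ) →+ ZMod s :=
      { toFun := fun x => ((∑ i, Nf j i * x i : ℤ) : ZMod s)
        map_zero' := by simp
        map_add' := fun x z => by
          rw [← Int.cast_add, ← Finset.sum_add_distrib]
          congr 1
          exact Finset.sum_congr rfl fun i _ => by rw [Pi.add_apply, mul_add] }
    obtain ⟨t, ht, hct, htN, hτt⟩ := exists_tor_fix hp hB hd h.frob h.fr hζ c (fun x => by
      show ((∑ i, Nf j i * (θ x) i : ℤ) : ZMod s) = ((r ^ e : ℕ) : ZMod s) * ((∑ i, Nf j i * x i : ℤ) : ZMod s)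
      have h3 := (ZMod.intCast_zmod_eq_zero_iff_dvd _ _).2 (hN j x)
      push_cast at h3 ⊢
      exact sub_eq_zero.1 h3)
    obtain ⟨x, rfl⟩ := hmem t hτt htN
    refine ⟨x, ht, ?_, fun z => ?_⟩
    · apply h.inj
      rw [map_pow, htN, map_one]
    · rw [hct]
      exact (zpow_eq_pow_val hζ _)
  choose a ha has hax using h2
  have hch : ∀ j, ∀ b < D.nroots, ch hp (vec D l b) (κ (a j)) = ζ ^ (∑ i, Nf j i * vec D l b i) := by
    intro j b hb
    rw [← cX_vec hp (ha j) hb]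
    exact hax j _
  refine ⟨closure (Set.range a), ?_, ?_, fun A hA hAs hAp hn => ?_⟩
  · intro hbot
    obtain ⟨j, b, hb, hj⟩ := h1
    have h3 : a j ∈ closure (Set.range a) := subset_closure ⟨j, rfl⟩
    rw [hbot, mem_bot] at h3
    have h4 := hch j b hb
    rw [h3, map_one, ch_one hp r hk hb] at h4
    have h5 := zpow_prim hs.out hζ (h4.symm.trans (zpow_zero ζ).symm)
    rw [sub_zero] at h5
    exact hj h5
  · have hYT := TT_of_closure (f := κ) ha
    rintro ⟨x, hx⟩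
    refine ⟨1, Subtype.ext ?_⟩
    show x ^ s ^ 1 = 1
    rw [pow_one]
    refine closure_induction (p := fun x _ => x ^ s = 1) ?_ (one_pow _) ?_ ?_ hx
    · rintro _ ⟨j, rfl⟩
      exact has j
    · intro x z hx hz h3 h4
      have hc : Commute x z := by
        apply h.inj
        rw [map_mul, map_mul]
        exact TT_comm hp _ (hYT x hx) _ (hYT z hz)
      rw [hc.mul_pow, h3, h4, one_mul]
    · intro x _ h3
      rw [inv_pow, h3, inv_one]
  · exact cen_of_chkF hp r hk hs.out hsk hζ hB hd L K κ h.inj ha has hch hA hAs hAp hn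

end Emb

section Row

open Cfsg.Agent.H571.RV Cfsg.Agent.H571.RM

variable {S : Type u} [Group S] [Finite S] {π : Set ℕ} {r p : ℕ} {H A : Subgroup S}

/-- **`RowM` from `CenB`.** -/
theorem rowM_of_cenB [IsSimpleGroup S] (hna : ∃ a b : S, a * b ≠ b * a) (hpp : p.Prime) (hpπ : p ∉ π)
    (d : HA π r H A) (hrπ : r ∈ π) (h : CenB r p S) : RowM π S := by
  obtain ⟨B, hB1, hB, hcen⟩ := h
  refine rowM_of_cen hna d hrπ (MonoidHom.id S) Function.surjective_id ?_ ?_ hB ?_ ?_
  · rw [MonoidHom.ker_id]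
    exact bot_le
  · rw [MonoidHom.ker_id, Subgroup.card_bot]
    exact Nat.coprime_one_right _
  · by_contra hcon
    push Not at hcon
    exact hB1 ((eq_bot_iff_forall B).2 hcon)
  · intro A' hab hπ hr hn b hb a ha
    exact hcen A' hab hr (fun h => hpπ (hπ p hpp h)) hn b hb a ha

end Row

end Cfsg.Agent.H169.RM
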