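import Cfsg.Agent.H169.RM.DFrm

/-!
# S3849, `³D₄(q)`: a nonabelian `3`-subgroup with a small centraliser (helper169)

* `exists_P0` : `3 ∣ q - ε` : a `3`-subgroup `P` such that `a ^ (3 (q² + ε q + 1)) = 1` for the `3'`-elements `a` of
  `C_G(P)`.
-/

set_option autoImplicit false
set_option linter.unusedSectionVars false

namespace Cfsg.Agent.H169.RM.DFour

open CoxeterSystem Cfsg Cfsg.Lie Cfsg.Lie.ChevalleyDatum
open Cfsg.Agent.ChevalleyStructure Cfsg.Agent.ChevalleyStructure.Elts Cfsg.Agent.ChevalleyStructure.CoxeterGeom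
  Cfsg.Agent.ChevalleyStructure.CoxeterGeomTypes Cfsg.Agent.ChevalleyStructure.NPerm
open Cfsg.Agent.Tits.Roots Cfsg.Agent.Tits.Core Cfsg.Agent.Nodes Cfsg.Agent.Nodes.Reps Cfsg.Agent.Nodes.BNOf
  Cfsg.Agent.Nodes.RGDChev Cfsg.Agent.Nodes.Bruhat
open Cfsg.Agent.KFacts.RgdField Cfsg.Agent.KFacts.RgdChevCoord Cfsg.Agent.BpExc.TorCent Cfsg.Agent.BpExc.TorChev
open Cfsg.Agent.GpExc.Field Cfsg.Agent.BpExc.Tow Cfsg.Agent.BpExc.TowChev Cfsg.Agent.BpExc.Fr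
  Cfsg.Agent.BpExc.LangFr Cfsg.Agent.H129.TorusChar Cfsg.Agent.H129.TorusMain Cfsg.Agent.H123.ExcZ
open Cfsg.Agent.BpExc Cfsg.Agent.H795.LangT Cfsg.Agent.H795.Core Cfsg.Agent.H795.NotAbT
open Cfsg.Agent.H572.ExcA Cfsg.Agent.H572.ExcB Cfsg.Agent.H572.ExcC Cfsg.Agent.H572.ExcD
open Cfsg.Agent.H565.CharCnt Cfsg.Agent.H129.TorusUntw
open Cfsg.Agent.H720.TwFr Cfsg.Agent.H795.NotAbRows
open Cfsg.Agent.H129.WData Cfsg.Agent.H795.NotAbCert Cfsg.Agent.H795.NotAbData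
open Subgroup

universe u v

/-- the functionals `x₁`, `x₀ + x₂ + x₃` -/
def cf (s : ℕ) (j : Fin 2) : (Fin 4 → ℤ) →+ ZMod s where
  toFun x := ((![x 1, x 0 + x 2 + x 3] j : ℤ) : ZMod s)
  map_zero' := by fin_cases j <;> simp
  map_add' x y := by
    fin_cases j
    · simp
    · simp only [Pi.add_apply, Fin.mk_one, Matrix.cons_val_one, Matrix.cons_val_fin_one, Int.cast_add]
      ring

theorem cf_apply (s : ℕ) (j : Fin 2) (x : Fin 4 → ℤ) : cf s j x = ((![x 1, x 0 + x 2 + x 3] j : ℤ) : ZMod s) := rfl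

theorem sigM_apply (x : Fin 4 → ℤ) : Matrix.vecMul x sigM = ![x 3, x 1, x 0, x 2] := by
  funext m
  fin_cases m <;> simp [sigM, Matrix.vecMul, dotProduct, Fin.sum_univ_four]

theorem cf_sig (s : ℕ) (j : Fin 2) (ε : ℤ) (x : Fin 4 → ℤ) : cf s j (ε • Matrix.vecMul x sigM) = (ε : ZMod s) * cf s j x := by
  rw [map_zsmul, zsmul_eq_mul]
  congr 1
  rw [cf_apply, cf_apply, sigM_apply]
  fin_cases j
  · rfl
  · simp
    ring

theorem cf_root : ∀ b < chevD4.nroots, ¬ ((3 : ℤ) ∣ (vec chevD4 4 b 1) ∧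
    (3 : ℤ) ∣ vec chevD4 4 b 0 + vec chevD4 4 b 2 + vec chevD4 4 b 3) := by decide +kernel

/-- the rotation -/
def rotM : Matrix (Fin 4) (Fin 4) ℤ := D4.c2M

theorem rot_comm : sigM * rotM = rotM * sigM := by decide +kernel

theorem rot_id : (1 + rotM + rotM * rotM) * (sigM * sigM + sigM + 1) = 0 := by decide +kernel

/-- the `3`-part of an element representing an element of order 3 -/
theorem exists_three_elt {G : Type*} [Group G] [Finite G] (y : G) :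
    ∃ m : ℕ, m % 3 = 1 ∧ ∃ k, (y ^ m) ^ 3 ^ k = 1 := by
  obtain ⟨k, b, hb, hkb⟩ := Nat.exists_eq_pow_mul_and_not_dvd (orderOf_pos y).ne' 3 (by norm_num)
  refine ⟨b * b, ?_, k, ?_⟩
  · have h1 : b % 3 = 1 ∨ b % 3 = 2 := by omega
    rw [Nat.mul_mod]
    rcases h1 with h1 | h1 <;> rw [h1]
  · rw [← pow_mul, show b * b * 3 ^ k = 3 ^ k * b * b by ring, ← hkb, pow_mul, pow_orderOf_eq_one, one_pow]

section

variable {K : Type u} [Field K] [Fintype K] {q : ℕ}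

theorem exists_P0_core (hq : IsPrimePow q) (hK : Fintype.card K = q ^ 3) (h3 : (3 : K) ≠ 0) {ε : ℤ}
    (hε : ε = 1 ∨ ε = -1) (hqε : (3 : ℤ) ∣ (q : ℤ) - ε) {wθ : coxeterD4.Group} {U : Matrix (Fin 4) (Fin 4) ℤ}
    (hU : IsMat hp4 wθ U) (hTh : sigM * U = ε • sigM) :
    ∃ P : Subgroup ↥(twistedD4 K q), IsPGroup 3 P ∧ ∀ a, (∀ x ∈ P, x * a = a * x) → (orderOf a).Coprime 3 →
      a ^ (3 * ((q : ℤ) ^ 2 + ε * q + 1)) = 1 := by
  classical
  obtain ⟨r, n, hr, hrF, hrk, hn0, hn, hk⟩ := H795.Tw.exists_closure_q three_ne_zero hq hK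
  have hpr : 3 ≠ r := by
    rintro rfl
    exact h3 (by exact_mod_cast CharP.cast_eq_zero K 3)
  have hfG : Finite ↥(twistedD4 K q) := inferInstance
  have hf3 : Fact (Nat.Prime 3) := ⟨Nat.prime_three⟩
  obtain ⟨κ, τ, hEm, hmem⟩ := exists_frm (n := n) hq hK hk hn0 hn wθ
  set θ := (permE rho4).trans (repAut coxeterD4.toCoxeterSystem hp4.isCartan wθ) with hθdef
  have hθ : ∀ x, θ x = ε • Matrix.vecMul x sigM := fun x => by
    rw [hθdef, theta_eq hU, hTh, Matrix.vecMul_smul]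
  have hε2 : ε * ε = 1 := by rcases hε with rfl | rfl <;> norm_num
  -- the torsion
  have hcast : ((r ^ n : ℕ) : ZMod 3) = (ε : ZMod 3) := by
    rw [← hn]
    have h1 : (((q : ℤ) - ε : ℤ) : ZMod 3) = 0 := (ZMod.intCast_zmod_eq_zero_iff_dvd _ _).2 hqε
    push_cast at h1
    exact sub_eq_zero.1 h1
  obtain ⟨ζ, hζ⟩ := exists_zeta_pow (k := AlgebraicClosure K) (r := r) (s := 3) (a := 1) hpr
  rw [pow_one] at hζ
  have hTE : ∀ j, ∃ x ∈ TE κ hEm.inj hp4 3, ∀ y, cX hp4 (κ x) y = ζ ^ (cf 3 j y).val := fun j =>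
    exists_TE hEm invC_D4 two_ne_zero hmem hζ (cf 3 j) fun x => by rw [hθ, cf_sig, hcast]
  have hroot : ∀ b < chevD4.nroots, ∃ x ∈ TE κ hEm.inj hp4 3, cX hp4 (κ x) (vec chevD4 4 b) ≠ 1 := by
    intro b hb
    by_contra hcon
    push Not at hcon
    apply cf_root b hb
    have key : ∀ j, (3 : ℤ) ∣ ![vec chevD4 4 b 1, vec chevD4 4 b 0 + vec chevD4 4 b 2 + vec chevD4 4 b 3] j := by
      intro j
      obtain ⟨x, hx, hxc⟩ := hTE j
      have h1 := hcon x hx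
      rw [hxc] at h1
      have h2 : 3 ∣ (cf 3 j (vec chevD4 4 b)).val := (hζ.pow_eq_one_iff_dvd _).1 h1
      have h3 : (cf 3 j (vec chevD4 4 b)).val = 0 := Nat.eq_zero_of_dvd_of_lt h2 (ZMod.val_lt _)
      rw [ZMod.val_eq_zero, cf_apply, ZMod.intCast_zmod_eq_zero_iff_dvd] at h3
      exact_mod_cast h3
    exact ⟨key 0, key 1⟩
  -- the rotation
  have hrot := D4.is_c2 hp4
  have hCT : D4.c2 ∈ CT hp4 θ := by
    intro x
    show rep coxeterD4.toCoxeterSystem hp4.isCartan D4.c2 (θ x) = θ (rep coxeterD4.toCoxeterSystem hp4.isCartan D4.c2 x)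
    rw [rep_eq (U := rotM) hrot, rep_eq (U := rotM) hrot, hθ, hθ, Matrix.smul_vecMul, Matrix.vecMul_vecMul,
      Matrix.vecMul_vecMul, rot_comm]
  obtain ⟨m, hm, hτm⟩ := exists_fixed (hk := hk) hEm invC_D4 two_ne_zero hCT
  obtain ⟨y, hy⟩ := hmem m hτm
  obtain ⟨N, hN3, j, hNj⟩ := exists_three_elt y
  set w := y ^ N with hw
  have hrpow : ∀ i : ℕ, RP hp4 hk r (D4.c2 ^ i) (κ y ^ i) := by
    intro i
    induction i with
    | zero => rw [pow_zero, pow_zero]; exact RP.one hp4 hk r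
    | succ i ih => rw [pow_succ, pow_succ]; exact ih.mul (by rw [hy]; exact hm)
  have hwRP : RP hp4 hk r D4.c2 (κ w) := by
    have h1 := hrpow N
    have h2 : D4.c2 ^ N = D4.c2 := by
      have h3 : N = 3 * (N / 3) + 1 := by omega
      rw [h3, pow_succ, pow_mul, D4.c2_pow hp4, one_pow, one_mul]
    rwa [h2, ← map_pow] at h1
  -- the subgroup
  have hz : IsPGroup 3 ↥(zpowers w) := by
    rintro ⟨_, i, rfl⟩
    refine ⟨j, Subtype.ext ?_⟩
    show (w ^ i) ^ 3 ^ j = 1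
    rw [← zpow_natCast, ← zpow_mul, mul_comm, zpow_mul, zpow_natCast, hNj, one_zpow]
  have hnorm : zpowers w ≤ normalizer (TE κ hEm.inj hp4 3 : Set ↥(twistedD4 K q)) := by
    rw [zpowers_le, mem_normalizer_iff]
    have key : ∀ v ∈ NG hp4 hk r κ, ∀ u ∈ TE κ hEm.inj hp4 3, v * u * v⁻¹ ∈ TE κ hEm.inj hp4 3 := by
      rintro v hv u ⟨hu, hi⟩
      exact ⟨conj_mem_TG κ hv hu, by rw [conj_pow, hi, mul_one, mul_inv_cancel]⟩
    have hwN : w ∈ NG hp4 hk r κ := ⟨_, hwRP⟩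
    intro u
    refine ⟨key w hwN u, fun h => ?_⟩
    have h1 := key w⁻¹ (inv_mem hwN) _ h
    have h2 : w⁻¹ * (w * u * w⁻¹) * w⁻¹⁻¹ = u := by group
    rwa [h2] at h1
  refine ⟨TE κ hEm.inj hp4 3 ⊔ zpowers w, IsPGroup.to_sup_of_normal_left' isPGroup_TE hz hnorm, fun a ha hao => ?_⟩
  have haE : ∀ x ∈ TE κ hEm.inj hp4 3, x * a = a * x := fun x hx => ha x (mem_sup_left hx)
  have haw : w * a = a * w := ha w (mem_sup_right (mem_zpowers w))
  have haT : a ∈ TG κ := mem_TG_of_comm r hk hroot haE (orderOf_pos a) hao (pow_orderOf_eq_one a)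
  have hφ := isMC_cX hp4 (show κ a ∈ TT chevD4 (AlgebraicClosure K) from haT)
  have hcθ : ∀ x, cX hp4 (κ a) (Matrix.vecMul x (ε • sigM)) = cX hp4 (κ a) x ^ q := fun x => by
    have h1 := char_theta hEm haT x
    rwa [hθ, ← Matrix.vecMul_smul, ← hn] at h1
  have hcw : ∀ x, cX hp4 (κ a) (Matrix.vecMul x rotM) = cX hp4 (κ a) x := fun x => by
    have h1 := hwRP.char haT x
    have h2 : κ w * κ a * (κ w)⁻¹ = κ a := by
      rw [← map_mul, haw, map_mul, mul_inv_cancel_right]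
    rwa [h2, rep_eq (U := rotM) hrot] at h1
  have hmain : ∀ x, cX hp4 (κ a) x ^ (3 * ((q : ℤ) ^ 2 + ε * q + 1)) = 1 := by
    intro x
    set z := x + Matrix.vecMul x rotM + Matrix.vecMul (Matrix.vecMul x rotM) rotM with hz
    have h1 : cX hp4 (κ a) z = cX hp4 (κ a) x ^ (3 : ℤ) := by
      rw [hz, hφ.add, hφ.add, hcw, hcw, hcw]
      rw [show (3 : ℤ) = ((3 : ℕ) : ℤ) from rfl, zpow_natCast]
      ring
    have h2 := vec_id' (Th := ε • sigM) (V := rotM) (ε := ε) (by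
      have e1 : (ε • sigM) * (ε • sigM) + ε • (ε • sigM) + 1 = sigM * sigM + sigM + 1 := by
        rw [Matrix.smul_mul, Matrix.mul_smul, smul_smul, smul_smul, hε2, one_smul, one_smul]
      rw [e1]
      exact rot_id) x z hz
    have h3 := pow_of_id hφ (θ := fun x => Matrix.vecMul x (ε • sigM)) hcθ h2
    rw [h1, ← zpow_mul] at h3
    exact h3
  -- the exponent
  obtain ⟨M, hM⟩ : ∃ M : ℕ, 3 * ((q : ℤ) ^ 2 + ε * q + 1) = (M : ℤ) := by
    refine ⟨(3 * ((q : ℤ) ^ 2 + ε * q + 1)).toNat, (Int.toNat_of_nonneg ?_).symm⟩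
    rcases hε with rfl | rfl
    · positivity
    · nlinarith [sq_nonneg ((q : ℤ) - 1), sq_nonneg (q : ℤ)]
  rw [hM, zpow_natCast]
  refine pow_eq_one_of_char (hp := hp4) hEm.inj haT fun x => ?_
  have h1 := hmain x
  rwa [hM, zpow_natCast] at h1

/-- **a `3`-subgroup with a small centraliser** -/
theorem exists_P0 (hq : IsPrimePow q) (hK : Fintype.card K = q ^ 3) (h3 : (3 : K) ≠ 0) {ε : ℤ}
    (hε : ε = 1 ∨ ε = -1) (hqε : (3 : ℤ) ∣ (q : ℤ) - ε) :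
    ∃ P : Subgroup ↥(twistedD4 K q), IsPGroup 3 P ∧ ∀ a, (∀ x ∈ P, x * a = a * x) → (orderOf a).Coprime 3 →
      a ^ (3 * ((q : ℤ) ^ 2 + ε * q + 1)) = 1 := by
  rcases hε with rfl | rfl
  · exact exists_P0_core hq hK h3 (Or.inl rfl) hqε (U := (fun j m => if j = m then 1 else 0)) (isMat_one)
      (by decide +kernel)
  · exact exists_P0_core hq hK h3 (Or.inr rfl) hqε (U := D4.c3M) (D4.is_c3 hp4) (by decide +kernel)

end

end Cfsg.Agent.H169.RM.DFour
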