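import Cfsg.Agent.H169.RM.DFrm

/-!
# S3849, `³D₄(q)`: the torus of order `(q² + ε q + 1)²` (helper169)

* `exists_B0` : `3 ∣ q - ε`, `5 ≤ t` a prime divisor of `q² + ε q + 1`: a `t`-subgroup `B` such that the `3`-subgroups
  of `C_G(B)` have order at most 9.
-/

set_option autoImplicit false
set_option linter.unusedSectionVars false

namespace Cfsg.Agent.H169.RM.DFour

open CoxeterSystem Cfsg Cfsg.Lie Cfsg.Lie.ChevalleyDatum
open Cfsg.Agent.ChevalleyStructure Cfsg.Agent.ChevalleyStructure.Elts Cfsg.Agent.ChevalleyStructure.CoxeterGeom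
  Cfsg.Agent.ChevalleyStructure.CoxeterGeomTypes Cfsg.Agent.ChevalleyStructure.NPerm
open Cfsg.Agent.Tits.Roots Cfsg.Agent.Tits.Core Cfsg.Agent.Nodes Cfsg.Agent.Nodes.Reps Cfsg.Agent.Nodes.BNOf
  Cfsg.Agent.Nodes.RGDChev Cfsg.Agent.Nodes.Bruhat
open Cfsg.Agent.KFacts.RgdField Cfsg.Agent.KFacts.RgdChevCoord Cfsg.Agent.BpExc.TorCent Cfsg.Agent.BpExc.TorChev
open Cfsg.Agent.GpExc.Field Cfsg.Agent.BpExc.Tow Cfsg.Agent.BpExc.TowChev Cfsg.Agent.BpExc.Fr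
  Cfsg.Agent.BpExc.LangFr Cfsg.Agent.H129.TorusChar Cfsg.Agent.H129.TorusMain Cfsg.Agent.H123.ExcZ
open Cfsg.Agent.BpExc Cfsg.Agent.H795.LangT Cfsg.Agent.H795.Core Cfsg.Agent.H795.NotAbT
open Cfsg.Agent.H572.ExcA Cfsg.Agent.H572.ExcB Cfsg.Agent.H572.ExcC Cfsg.Agent.H572.ExcD
open Cfsg.Agent.H565.CharCnt Cfsg.Agent.H129.TorusUntw
open Cfsg.Agent.H720.TwFr Cfsg.Agent.H795.NotAbRows
open Cfsg.Agent.H129.WData Cfsg.Agent.H795.NotAbCert Cfsg.Agent.H795.NotAbData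
open Subgroup

universe u v

/-! ### the words -/

/-- the chain of `a` -/
def aL : List (Fin 4 × Mat 4) := [
  (2, ![![-1, -1, 0, -1], ![0, -1, -1, 0], ![0, 1, 1, 1], ![0, 1, 0, 0]]),
  (0, ![![-1, -1, -1, -1], ![0, -1, 0, 0], ![0, 1, 0, 1], ![0, 1, 1, 0]]),
  (1, ![![0, -1, -1, -1], ![-1, -1, 0, 0], ![1, 1, 0, 1], ![1, 1, 1, 0]]),
  (3, ![![0, -1, -1, -1], ![-1, 0, 0, 0], ![1, 1, 0, 1], ![1, 1, 1, 0]]),
  (2, ![![0, -1, -1, 0], ![-1, 0, 0, 0], ![1, 1, 0, 0], ![1, 1, 1, 1]]),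
  (0, ![![0, -1, 0, 0], ![-1, 0, 0, 0], ![1, 1, 1, 0], ![1, 1, 0, 1]]),
  (1, ![![-1, -1, 0, 0], ![1, 0, 0, 0], ![0, 1, 1, 0], ![0, 1, 0, 1]]),
  (0, ![![-1, 0, 0, 0], ![1, 1, 0, 0], ![0, 0, 1, 0], ![0, 0, 0, 1]])]

theorem aOK : ChainOK D4.Am aL := by decide +kernel

/-- the matrix of `a` -/
def aM : Matrix (Fin 4) (Fin 4) ℤ := ![![-1, -1, 0, -1], ![0, -1, -1, 0], ![0, 1, 1, 1], ![0, 1, 0, 0]]

/-- the element -/
noncomputable def aW : coxeterD4.Group := coxeterD4.toCoxeterSystem.wordProd (aL.map Prod.fst)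

theorem is_a : IsMat hp4 aW aM := by
  have h := isMat_chain hp4 D4.hA aOK
  have e : hd aL = aM := rfl
  rw [e] at h
  exact h

/-- the chain of `b` -/
def bL : List (Fin 4 × Mat 4) := [
  (2, ![![0, -1, -1, 0], ![-1, 0, 0, 0], ![1, 1, 0, 0], ![1, 1, 1, 1]]),
  (0, ![![0, -1, 0, 0], ![-1, 0, 0, 0], ![1, 1, 1, 0], ![1, 1, 0, 1]]),
  (1, ![![-1, -1, 0, 0], ![1, 0, 0, 0], ![0, 1, 1, 0], ![0, 1, 0, 1]]),
  (0, ![![-1, 0, 0, 0], ![1, 1, 0, 0], ![0, 0, 1, 0], ![0, 0, 0, 1]])]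

theorem bOK : ChainOK D4.Am bL := by decide +kernel

/-- the matrix of `b` -/
def bM : Matrix (Fin 4) (Fin 4) ℤ := ![![0, -1, -1, 0], ![-1, 0, 0, 0], ![1, 1, 0, 0], ![1, 1, 1, 1]]

/-- the element -/
noncomputable def bW : coxeterD4.Group := coxeterD4.toCoxeterSystem.wordProd (bL.map Prod.fst)

theorem is_b : IsMat hp4 bW bM := by
  have h := isMat_chain hp4 D4.hA bOK
  have e : hd bL = bM := rfl
  rw [e] at h
  exact h

/-- the `θ`'s -/
def ThA : Matrix (Fin 4) (Fin 4) ℤ := ![![0, 1, 1, 1], ![0, -1, -1, 0], ![0, 1, 0, 0], ![-1, -1, 0, -1]]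

/-- the `θ`'s -/
def ThB : Matrix (Fin 4) (Fin 4) ℤ := ![![1, 1, 0, 0], ![-1, 0, 0, 0], ![1, 1, 1, 1], ![0, -1, -1, 0]]

theorem thA_eq : sigM * aM = ThA := by decide +kernel

theorem thB_eq : sigM * bM = ThB := by decide +kernel

/-- the checks -/
structure ThOK (Th : Matrix (Fin 4) (Fin 4) ℤ) (ε : ℤ) : Prop where
  id : Th * Th + ε • Th + 1 = 0
  minor : ∀ b < chevD4.nroots, ∃ i j : Fin 4,
    vec chevD4 4 b i * Matrix.vecMul (vec chevD4 4 b) Th j - vec chevD4 4 b j * Matrix.vecMul (vec chevD4 4 b) Th i = 1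
  cnt : Fintype.card {m : Fin 4 → ZMod 3 // ∀ j, ∑ n, (Th j n : ZMod 3) * m n = (ε : ZMod 3) * m j} = 9

theorem thA_ok : ThOK ThA 1 := ⟨by decide +kernel, by decide +kernel, by decide +kernel⟩

theorem thB_ok : ThOK ThB (-1) := ⟨by decide +kernel, by decide +kernel, by decide +kernel⟩

/-- the functionals `x ↦ θ(x)_i + (q + ε) x_i` -/
def cg (Th : Matrix (Fin 4) (Fin 4) ℤ) (c : ℤ) (s : ℕ) (i : Fin 4) : (Fin 4 → ℤ) →+ ZMod s where
  toFun x := ((Matrix.vecMul x Th i + c * x i : ℤ) : ZMod s)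
  map_zero' := by simp
  map_add' x y := by
    rw [Matrix.add_vecMul, Pi.add_apply, Pi.add_apply, ← Int.cast_add]
    congr 1
    ring

theorem cg_apply (Th : Matrix (Fin 4) (Fin 4) ℤ) (c : ℤ) (s : ℕ) (i : Fin 4) (x : Fin 4 → ℤ) :
    cg Th c s i x = ((Matrix.vecMul x Th i + c * x i : ℤ) : ZMod s) := rfl

theorem cg_th {Th : Matrix (Fin 4) (Fin 4) ℤ} {ε : ℤ} (h : Th * Th + ε • Th + 1 = 0) {q : ℤ} {s : ℕ}
    (hs : (s : ℤ) ∣ q ^ 2 + ε * q + 1) (i : Fin 4) (x : Fin 4 → ℤ) :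
    cg Th (q + ε) s i (Matrix.vecMul x Th) = (q : ZMod s) * cg Th (q + ε) s i x := by
  rw [cg_apply, cg_apply, ← Int.cast_mul, ← sub_eq_zero, ← Int.cast_sub, ZMod.intCast_zmod_eq_zero_iff_dvd]
  have h1 := congrFun (vec_id h x) i
  simp only [Pi.add_apply, Pi.smul_apply, smul_eq_mul, Pi.zero_apply] at h1
  obtain ⟨c, hc⟩ := hs
  refine ⟨-c * x i, ?_⟩
  linear_combination h1 - x i * hc

theorem nine_not_dvd {q ε : ℤ} (hε : ε = 1 ∨ ε = -1) (h : (3 : ℤ) ∣ q - ε) : ¬ (9 : ℤ) ∣ q ^ 2 + ε * q + 1 := by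
  obtain ⟨c, hc⟩ := h
  have h1 : q = 3 * c + ε := by linarith
  rintro ⟨d, hd⟩
  rw [h1] at hd
  rcases hε with rfl | rfl
  · have h2 : 9 * (c ^ 2 + c - d) = -3 := by ring_nf at hd ⊢; linarith
    omega
  · have h2 : 9 * (c ^ 2 - c - d) = -3 := by ring_nf at hd ⊢; linarith
    omega

section

variable {K : Type u} [Field K] [Fintype K] {q : ℕ}

theorem exists_B0_core (hq : IsPrimePow q) (hK : Fintype.card K = q ^ 3) (h3 : (3 : K) ≠ 0) {ε : ℤ}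
    (hε : ε = 1 ∨ ε = -1) (hqε : (3 : ℤ) ∣ (q : ℤ) - ε) {t : ℕ} (ht : t.Prime) (ht5 : 5 ≤ t)
    (htq : (t : ℤ) ∣ (q : ℤ) ^ 2 + ε * q + 1) {wθ : coxeterD4.Group} {U Th : Matrix (Fin 4) (Fin 4) ℤ}
    (hU : IsMat hp4 wθ U) (hTh : sigM * U = Th) (ok : ThOK Th ε) :
    ∃ B : Subgroup ↥(twistedD4 K q), IsPGroup t B ∧ ∀ L : Subgroup ↥(twistedD4 K q), IsPGroup 3 L →
      L ≤ centralizer (B : Set ↥(twistedD4 K q)) → Nat.card L ≤ 9 := by
  classical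
  obtain ⟨r, n, hr, hrF, hrk, hn0, hn, hk⟩ := H795.Tw.exists_closure_q three_ne_zero hq hK
  have hpr : 3 ≠ r := by
    rintro rfl
    exact h3 (by exact_mod_cast CharP.cast_eq_zero K 3)
  have hfG : Finite ↥(twistedD4 K q) := inferInstance
  have hft : Fact t.Prime := ⟨ht⟩
  have htz : NeZero t := ⟨ht.ne_zero⟩
  have htr : t ≠ r := by
    rintro rfl
    have h1 : (t : ℤ) ∣ (q : ℤ) := by
      rw [hn]
      push_cast
      exact dvd_pow_self _ hn0.ne'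
    have h2 : (t : ℤ) ∣ 1 := by
      have h3 : (t : ℤ) ∣ (q : ℤ) ^ 2 + ε * q := dvd_add (h1.trans (dvd_pow_self _ two_ne_zero)) (h1.mul_left _)
      exact (dvd_add_right h3).1 htq
    have h4 : t ∣ 1 := by exact_mod_cast h2
    exact ht.one_lt.ne' (Nat.dvd_one.1 h4)
  obtain ⟨κ, τ, hEm, hmem⟩ := exists_frm (n := n) hq hK hk hn0 hn wθ
  set θ := (permE rho4).trans (repAut coxeterD4.toCoxeterSystem hp4.isCartan wθ) with hθdef
  have hθ : ∀ x, θ x = Matrix.vecMul x Th := fun x => by rw [hθdef, theta_eq hU, hTh]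
  obtain ⟨ζ, hζ⟩ := exists_zeta_pow (k := AlgebraicClosure K) (r := r) (s := t) (a := 1) htr
  rw [pow_one] at hζ
  have hTE : ∀ i, ∃ x ∈ TE κ hEm.inj hp4 t, ∀ y, cX hp4 (κ x) y = ζ ^ (cg Th (q + ε) t i y).val := fun i =>
    exists_TE hEm invC_D4 two_ne_zero hmem hζ (cg Th (q + ε) t i) fun x => by
      rw [hθ, cg_th ok.id htq, ← hn]
      push_cast
      rfl
  have hroot : ∀ b < chevD4.nroots, ∃ x ∈ TE κ hEm.inj hp4 t, cX hp4 (κ x) (vec chevD4 4 b) ≠ 1 := by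
    intro b hb
    by_contra hcon
    push Not at hcon
    obtain ⟨i, j, hij⟩ := ok.minor b hb
    have key : ∀ i, (t : ℤ) ∣ Matrix.vecMul (vec chevD4 4 b) Th i + (q + ε) * vec chevD4 4 b i := by
      intro i
      obtain ⟨x, hx, hxc⟩ := hTE i
      have h1 := hcon x hx
      rw [hxc] at h1
      have h2 : t ∣ (cg Th (q + ε) t i (vec chevD4 4 b)).val := (hζ.pow_eq_one_iff_dvd _).1 h1
      have h3 : (cg Th (q + ε) t i (vec chevD4 4 b)).val = 0 := Nat.eq_zero_of_dvd_of_lt h2 (ZMod.val_lt _)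
      rw [ZMod.val_eq_zero, cg_apply, ZMod.intCast_zmod_eq_zero_iff_dvd] at h3
      exact h3
    have h1 : (t : ℤ) ∣ 1 := by
      have h2 := dvd_sub ((key j).mul_left (vec chevD4 4 b i)) ((key i).mul_left (vec chevD4 4 b j))
      have h3 : vec chevD4 4 b i * (Matrix.vecMul (vec chevD4 4 b) Th j + (q + ε) * vec chevD4 4 b j) -
          vec chevD4 4 b j * (Matrix.vecMul (vec chevD4 4 b) Th i + (q + ε) * vec chevD4 4 b i) = 1 := by
        rw [← hij]; ring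
      rwa [h3] at h2
    have h4 : t ∣ 1 := by exact_mod_cast h1
    exact ht.one_lt.ne' (Nat.dvd_one.1 h4)
  refine ⟨TE κ hEm.inj hp4 t, isPGroup_TE, fun L hL hLC => ?_⟩
  -- the elements of `L`
  have hLT : ∀ y ∈ L, y ∈ TG κ := by
    intro y hy
    obtain ⟨j, hj⟩ := hL ⟨y, hy⟩
    have hj' : y ^ 3 ^ j = 1 := congrArg Subtype.val hj
    exact mem_TG_of_comm r hk hroot (fun x hx => mem_centralizer_iff.1 (hLC hy) x hx) (by positivity)
      (Nat.Coprime.pow_left _ ((Nat.coprime_primes Nat.prime_three ht).2 (by omega))) hj'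
  obtain ⟨Nq, hNq⟩ : ∃ Nq : ℕ, (q : ℤ) ^ 2 + ε * q + 1 = (Nq : ℤ) := by
    refine ⟨((q : ℤ) ^ 2 + ε * q + 1).toNat, (Int.toNat_of_nonneg ?_).symm⟩
    rcases hε with rfl | rfl
    · positivity
    · nlinarith [sq_nonneg ((q : ℤ) - 1), sq_nonneg (q : ℤ)]
  have hcθ : ∀ y ∈ L, ∀ x, cX hp4 (κ y) (Matrix.vecMul x Th) = cX hp4 (κ y) x ^ q := fun y hy x => by
    have h1 := char_theta hEm (hLT y hy) x
    rwa [hθ, ← hn] at h1
  have hL3 : ∀ y ∈ L, y ^ 3 = 1 := by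
    intro y hy
    have hφ := isMC_cX hp4 (show κ y ∈ TT chevD4 (AlgebraicClosure K) from hLT y hy)
    have h1 : y ^ Nq = 1 := by
      refine pow_eq_one_of_char (hp := hp4) hEm.inj (hLT y hy) fun x => ?_
      have h2 := pow_of_id hφ (θ := fun x => Matrix.vecMul x Th) (hcθ y hy) (vec_id ok.id x)
      rwa [hNq, zpow_natCast] at h2
    obtain ⟨j, hj⟩ := hL ⟨y, hy⟩
    have hj' : y ^ 3 ^ j = 1 := congrArg Subtype.val hj
    obtain ⟨i, -, hi⟩ := (Nat.dvd_prime_pow Nat.prime_three).1 (orderOf_dvd_of_pow_eq_one hj')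
    have h2 : orderOf y ∣ Nq := orderOf_dvd_of_pow_eq_one h1
    have hi2 : i < 2 := by
      by_contra hcon
      push Not at hcon
      apply nine_not_dvd hε hqε
      rw [hNq]
      have h3 : 3 ^ 2 ∣ Nq := (pow_dvd_pow 3 hcon).trans (hi ▸ h2)
      exact_mod_cast h3
    have h3 : orderOf y ∣ 3 := by
      rw [hi]
      exact (pow_dvd_pow 3 (show i ≤ 1 by omega)).trans (by norm_num)
    exact orderOf_dvd_iff_pow_eq_one.1 h3
  -- the count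
  have hf3 : Fact (Nat.Prime 3) := ⟨Nat.prime_three⟩
  obtain ⟨ω, hω⟩ := exists_zeta_pow (k := AlgebraicClosure K) (r := r) (s := 3) (a := 1) hpr
  rw [pow_one] at hω
  have hω0 : ω ≠ 0 := hω.ne_zero (by norm_num)
  have hexp : ∀ y : L, ∀ j : Fin 4, ∃ m : ℕ, ω ^ m = cX hp4 (κ y) (sr j) := by
    intro y j
    have h1 : cX hp4 (κ y) (sr j) ^ 3 = 1 := by
      have hy' : κ y ∈ TT chevD4 (AlgebraicClosure K) := hLT y y.2
      rw [← cX_pow hp4 hy', ← map_pow, hL3 y y.2, map_one, cX_one]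
    obtain ⟨m, -, hm⟩ := hω.eq_pow_of_pow_eq_one h1
    exact ⟨m, hm⟩
  choose m hm using hexp
  have hrel : ∀ y : L, ∀ j : Fin 4, ∑ i, (Th j i : ZMod 3) * (m y i : ZMod 3) = (ε : ZMod 3) * (m y j : ZMod 3) := by
    intro y j
    have hφ := isMC_cX hp4 (show κ y ∈ TT chevD4 (AlgebraicClosure K) from hLT y y.2)
    have h1 := hcθ y y.2 (sr j)
    rw [hφ.eq_prod] at h1
    have h2 : ∀ i, Matrix.vecMul (sr j : Fin 4 → ℤ) Th i = Th j i := by
      intro i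
      show ∑ n, (sr j : Fin 4 → ℤ) n * Th n i = Th j i
      rw [Finset.sum_eq_single j]
      · rw [sr_self, one_mul]
      · intro n _ hn'
        rw [sr_ne hn', zero_mul]
      · intro h
        exact absurd (Finset.mem_univ j) h
    have h3 : ω ^ (∑ i, (m y i : ℤ) * Th j i) = ω ^ ((m y j : ℤ) * q) := by
      have e1 : ∀ i, ω ^ ((m y i : ℤ) * Th j i) = cX hp4 (κ y) (sr i) ^ (Matrix.vecMul (sr j : Fin 4 → ℤ) Th i) :=
        fun i => by rw [h2, zpow_mul, zpow_natCast ω, hm]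
      rw [Fin.prod_univ_four] at h1
      rw [Fin.sum_univ_four, zpow_add₀ hω0, zpow_add₀ hω0, zpow_add₀ hω0, e1, e1, e1, e1, h1, ← hm y j, zpow_mul,
        zpow_natCast, zpow_natCast]
    have h4 : (3 : ℤ) ∣ (∑ i, (m y i : ℤ) * Th j i) - (m y j : ℤ) * q := by
      have h5 : ω ^ ((∑ i, (m y i : ℤ) * Th j i) - (m y j : ℤ) * q) = 1 := by
        rw [zpow_sub₀ hω0, h3, div_self (zpow_ne_zero _ hω0)]
      exact_mod_cast (hω.zpow_eq_one_iff_dvd _).1 h5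
    have h5 : (3 : ℤ) ∣ (∑ i, Th j i * (m y i : ℤ)) - ε * (m y j : ℤ) := by
      have h6 : (∑ i, Th j i * (m y i : ℤ)) - ε * (m y j : ℤ) =
          ((∑ i, (m y i : ℤ) * Th j i) - (m y j : ℤ) * q) + (m y j : ℤ) * (q - ε) := by
        have h7 : ∑ i, Th j i * (m y i : ℤ) = ∑ i, (m y i : ℤ) * Th j i :=
          Finset.sum_congr rfl fun i _ => mul_comm _ _
        rw [h7]; ring
      rw [h6]
      exact dvd_add h4 (hqε.mul_left _)
    have h6 := (ZMod.intCast_zmod_eq_zero_iff_dvd _ 3).2 (by exact_mod_cast h5)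
    push_cast at h6
    exact sub_eq_zero.1 h6
  let F : L → {m : Fin 4 → ZMod 3 // ∀ j, ∑ n, (Th j n : ZMod 3) * m n = (ε : ZMod 3) * m j} :=
    fun y => ⟨fun j => (m y j : ZMod 3), hrel y⟩
  have hF : Function.Injective F := by
    intro y z hyz
    apply Subtype.ext
    apply hEm.inj
    refine cX_inj hp4 (show κ y ∈ TT chevD4 (AlgebraicClosure K) from hLT y y.2)
      (show κ z ∈ TT chevD4 (AlgebraicClosure K) from hLT z z.2) fun i => ?_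
    have h1 : (m y i : ZMod 3) = (m z i : ZMod 3) := congrFun (congrArg Subtype.val hyz) i
    rw [← hm, ← hm]
    rw [ZMod.natCast_eq_natCast_iff] at h1
    exact pow_eq_pow_of_modEq h1 hω.pow_eq_one
  have h9 := Nat.card_le_card_of_injective F hF
  rw [Nat.card_eq_fintype_card (α := {m : Fin 4 → ZMod 3 // _}), ok.cnt] at h9
  exact h9

/-- **the torus of order `(q² + ε q + 1)²`** -/
theorem exists_B0 (hq : IsPrimePow q) (hK : Fintype.card K = q ^ 3) (h3 : (3 : K) ≠ 0) {ε : ℤ}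
    (hε : ε = 1 ∨ ε = -1) (hqε : (3 : ℤ) ∣ (q : ℤ) - ε) {t : ℕ} (ht : t.Prime) (ht5 : 5 ≤ t)
    (htq : (t : ℤ) ∣ (q : ℤ) ^ 2 + ε * q + 1) :
    ∃ B : Subgroup ↥(twistedD4 K q), IsPGroup t B ∧ ∀ L : Subgroup ↥(twistedD4 K q), IsPGroup 3 L →
      L ≤ centralizer (B : Set ↥(twistedD4 K q)) → Nat.card L ≤ 9 := by
  rcases hε with rfl | rfl
  · exact exists_B0_core hq hK h3 (Or.inl rfl) hqε ht ht5 htq is_a thA_eq thA_ok
  · exact exists_B0_core hq hK h3 (Or.inr rfl) hqε ht ht5 htq is_b thB_eq thB_ok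

end

end Cfsg.Agent.H169.RM.DFour
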