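import Cfsg.Agent.H169.RM.DRot
import Cfsg.Agent.H169.RM.DSq
import Cfsg.Agent.H893.RM.Star
import Cfsg.Agent.H893.RM.TwG
import Cfsg.Agent.H571.RM.RowC
import Cfsg.Agent.S1067

/-!
# S3849: the row `³D₄(q)`, `2, p ∉ π` (helper169)

* `rowM_d4_odd`.
-/

set_option autoImplicit false
set_option linter.unusedSectionVars false

namespace Cfsg.Agent.H169.RM.DFour

open Subgroup Cfsg Cfsg.Agent.H988.CPi Cfsg.Agent.H571.DExt Cfsg.Agent.H571.RV Cfsg.Agent.H571.RM
  Cfsg.Agent.H553.OddHall Cfsg.Agent.H565.NM Cfsg.Agent.H167.RV Cfsg.Agent.Solvable.SZ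
open Cfsg.Lie Cfsg.Agent.H893.RM Cfsg.Agent.H893.RM.TwG
open Cfsg.Agent.ChevalleyStructure.CoxeterGeomTypes Cfsg.Agent.Nodes.RGDChev Cfsg.Agent.H795.SetTor
  Cfsg.Agent.H795.RowsA Cfsg.Agent.H565.T3 Cfsg.Agent.GpExc.Field Cfsg.Agent.H720.TwFr Cfsg.Agent.BpExc
open scoped Pointwise

universe u

theorem exists_conj_le {G : Type u} [Group G] [Finite G] {t : ℕ} (ht : t.Prime) {B Q : Subgroup G} (hQ : IsPGroup t Q)
    (hB : IsPGroup t B) (hBi : ¬ t ∣ B.index) : ∃ g : G, ∀ x ∈ Q, g * x * g⁻¹ ∈ B := by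
  have hft : Fact t.Prime := ⟨ht⟩
  obtain ⟨P, hP⟩ := hQ.exists_le_sylow
  obtain ⟨g, hg⟩ := MulAction.exists_smul_eq G P (hB.toSylow hBi)
  refine ⟨g, fun x hx => ?_⟩
  have h1 : g * x * g⁻¹ ∈ (hB.toSylow hBi : Subgroup G) := by
    rw [← hg]
    exact ⟨x, hP hx, rfl⟩
  exact h1

theorem card_dvd {q : ℕ} (h : ¬ 3 ∣ q) : 81 ∣ q ^ 12 * (q ^ 2 - 1) * (q ^ 6 - 1) * (q ^ 8 + q ^ 4 + 1) := by
  have h3 : q % 3 = 1 ∨ q % 3 = 2 := by omega
  have h9 : q % 9 = 1 ∨ q % 9 = 2 ∨ q % 9 = 4 ∨ q % 9 = 5 ∨ q % 9 = 7 ∨ q % 9 = 8 := by omega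
  have a1 : 3 ∣ q ^ 2 - 1 := Nat.dvd_of_mod_eq_zero (Nat.sub_mod_eq_zero_of_mod_eq (by
    rw [Nat.pow_mod]
    rcases h3 with h | h <;> rw [h]))
  have a2 : 9 ∣ q ^ 6 - 1 := Nat.dvd_of_mod_eq_zero (Nat.sub_mod_eq_zero_of_mod_eq (by
    rw [Nat.pow_mod]
    rcases h9 with h | h | h | h | h | h <;> rw [h]))
  have a3 : 3 ∣ q ^ 8 + q ^ 4 + 1 := Nat.dvd_of_mod_eq_zero (by
    rw [Nat.add_mod, Nat.add_mod (q ^ 8), Nat.pow_mod, Nat.pow_mod q 4]
    rcases h3 with h | h <;> rw [h])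
  have h1 := mul_dvd_mul (mul_dvd_mul (a1.mul_left (q ^ 12)) a2) a3
  exact h1

section

variable {F : Type} [Field F] [Fintype F] {p : ℕ} [CharP F p] {π : Set ℕ} {q : ℕ}

theorem rowM_d4_core (h2 : 2 ∉ π) (hpπ : p ∉ π) (hq : IsPrimePow q)
    (hK : Fintype.card F = q ^ 3) : RowM π ↥(twistedD4 F q) := by
  classical
  obtain ⟨r0, n, hr, hrF, hrk, hn0, hn, hk⟩ := H795.Tw.exists_closure_q three_ne_zero hq hK
  have hpr : p = r0 := CharP.eq F ‹_› hrF
  subst hpr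
  have hfG : Finite ↥(twistedD4 F q) := inferInstance
  let f := em4 (algebraMap F (AlgebraicClosure F)) (tw4_le hq hK)
  have hf : Function.Injective f := em4_injective _ _
  have hG := good_of_emb hp4 p hk (f := f) hf
  by_cases h3 : 3 ∈ π
  swap
  · refine rowM_good hG h2 fun t ht htπ _ => ⟨by rintro rfl; exact hpπ htπ, ?_⟩
    rw [card_D4]
    exact not_dvd_192 ht (five_le ht (by rintro rfl; exact h2 htπ) (by rintro rfl; exact h3 htπ))
  refine rowM_of_dom fun hD => ?_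
  have hFH : FHall π ↥(twistedD4 F q) := fhall_3D4 hq h2 hpπ (by obtain ⟨H, hH, -⟩ := hD; exact ⟨H, hH⟩) hK
    (MulEquiv.refl _)
  obtain ⟨r, H, A, d⟩ := FHall.exists_HA hFH
  have hf3 : Fact (Nat.Prime 3) := ⟨Nat.prime_three⟩
  have hp3 : 3 ≠ p := by rintro rfl; exact hpπ h3
  have h3F : (3 : F) ≠ 0 := by
    intro h0
    have h1 : ((3 : ℕ) : F) = 0 := by exact_mod_cast h0
    rw [CharP.cast_eq_zero_iff F p, Nat.prime_dvd_prime_iff_eq hr.out Nat.prime_three] at h1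
    exact hp3 h1.symm
  -- Sylow `3`-subgroups of `H`
  have hsyl : ∀ R : Subgroup ↥(twistedD4 F q), R ≤ H → ¬ 3 ∣ R.relIndex H → ¬ 3 ∣ R.index := by
    intro R hRH hRi
    rw [← relIndex_mul_index hRH]
    exact fun h => (Nat.prime_three.dvd_mul.1 h).elim hRi (d.hall.2 3 Nat.prime_three h3)
  have hr3 : r = 3 := by
    by_contra hr'
    obtain ⟨R, hRH, hRp, hRi⟩ := exists_syl Nat.prime_three H
    refine H795.NotAbRows.twD4 (F := F) h3F hq hK (hRp.toSylow (hsyl R hRH hRi)) ⟨⟨fun u v => Subtype.ext ?_⟩⟩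
    have key : ∀ y ∈ R, y ∈ A := fun y hy => by
      refine HA.mem_A d (hRH hy) ?_
      obtain ⟨k, hk⟩ := hRp ⟨y, hy⟩
      exact Nat.Coprime.coprime_dvd_left (orderOf_dvd_of_pow_eq_one (show y ^ 3 ^ k = 1 from congrArg Subtype.val hk))
        (Nat.Coprime.pow_left _ ((Nat.coprime_primes Nat.prime_three d.hr).2 (Ne.symm hr')))
    exact d.ab u (key u u.2) v (key v v.2)
  subst hr3
  -- the sign
  obtain ⟨ε, hε, hqε⟩ : ∃ ε : ℤ, (ε = 1 ∨ ε = -1) ∧ (3 : ℤ) ∣ (q : ℤ) - ε := by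
    rcases H795.NotAbRows.res3 (e := n) hr.out hp3 with h | h
    · refine ⟨1, Or.inl rfl, ?_⟩
      rw [← hn] at h
      have h1 : (((q : ℤ) - 1 : ℤ) : ZMod 3) = 0 := by push_cast; rw [h]; push_cast; ring
      exact (ZMod.intCast_zmod_eq_zero_iff_dvd _ 3).1 h1
    · refine ⟨-1, Or.inr rfl, ?_⟩
      rw [← hn] at h
      have h1 : (((q : ℤ) - (-1) : ℤ) : ZMod 3) = 0 := by push_cast; rw [h]; push_cast; ring
      exact (ZMod.intCast_zmod_eq_zero_iff_dvd _ 3).1 h1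
  have hq3 : ¬ 3 ∣ q := by
    rw [hn]
    intro h
    exact hp3 ((Nat.prime_dvd_prime_iff_eq Nat.prime_three hr.out).1 (Nat.prime_three.dvd_of_dvd_pow h))
  refine rowM_of_star d h3 fun t ht ht3 htA w hw hw3 a ha hao hwa b hb hbt => ?_
  have htπ : t ∈ π := d.hall.1 t ht (htA.trans (card_dvd_of_le d.ale))
  have ht2 : t ≠ 2 := by rintro rfl; exact h2 htπ
  have ht5 : 5 ≤ t := five_le ht ht2 ht3
  have htp : t ≠ p := by rintro rfl; exact hpπ htπ
  -- the Sylow `t`-subgroup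
  obtain ⟨B, hBA, hBt, hBi⟩ := exists_syl ht A
  have hBi' : ¬ t ∣ B.index := by
    rw [← relIndex_mul_index hBA, ← relIndex_mul_index d.ale]
    intro h
    rcases (Nat.Prime.dvd_mul ht).1 h with h | h
    · exact hBi h
    · rcases (Nat.Prime.dvd_mul ht).1 h with h | h
      · exact ht3 (d.idx t ht h)
      · exact d.hall.2 t ht htπ h
  have hHB : H ≤ normalizer (B : Set ↥(twistedD4 F q)) := fun x hx => by
    apply mem_normalizer_fintype
    intro y hy
    refine mem_of_tpow ht d.ab hBi ((mem_normalizer_iff.1 (d.nor hx) y).1 (hBA hy)) ?_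
    obtain ⟨k, hk⟩ := hBt ⟨y, hy⟩
    exact ⟨k, by rw [conj_pow, show y ^ t ^ k = 1 from congrArg Subtype.val hk]; group⟩
  have haB : a ∈ B := mem_of_tpow ht d.ab hBi ha ⟨1, by rw [pow_one, ← hao, pow_orderOf_eq_one]⟩
  have hbB : b ∈ B := mem_of_tpow ht d.ab hBi hb hbt
  -- the Sylow `3`-subgroup containing `w`
  obtain ⟨R, hRH, hRp, hRi, hwR⟩ : ∃ R : Subgroup ↥(twistedD4 F q), R ≤ H ∧ IsPGroup 3 R ∧ ¬ 3 ∣ R.index ∧ w ∈ R := by
    have hz : IsPGroup 3 (zpowers (⟨w, hw⟩ : H)) := isPGroup_zp (by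
      obtain ⟨k, hk⟩ := hw3
      exact ⟨k, Subtype.ext hk⟩)
    obtain ⟨P, hP⟩ := hz.exists_le_sylow
    have hPi : ((P : Subgroup H).map H.subtype).relIndex H = (P : Subgroup H).index := by
      show (comap H.subtype ((P : Subgroup H).map H.subtype)).index = _
      rw [comap_map_eq_self_of_injective H.subtype_injective]
    exact ⟨(P : Subgroup H).map H.subtype, map_subtype_le _, P.isPGroup'.map _,
      hsyl _ (map_subtype_le _) (by rw [hPi]; exact P.not_dvd_index), ⟨⟨w, hw⟩, hP (mem_zpowers _), rfl⟩⟩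
  -- the index
  set C : Subgroup ↥(twistedD4 F q) := centralizer (B : Set ↥(twistedD4 F q)) with hC
  have hidx : C.relIndex R ∣ 3 := by
    obtain ⟨g, hg⟩ := exists_g_of_not_dvd hp4 p hk f ht htp (by rw [card_D4]; exact not_dvd_192 ht ht5) hBt
    have h1 := relIndex_dvd_W hp4 hk p hf hg (hRH.trans hHB)
    rw [card_D4] at h1
    obtain ⟨m, hm⟩ := hRp.index (C.subgroupOf R)
    have hm' : C.relIndex R = 3 ^ m := hm
    rw [hm'] at h1 ⊢
    have hm2 : m < 2 := by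
      by_contra hcon
      push Not at hcon
      have h4 : 3 ^ 2 ∣ 192 := (pow_dvd_pow 3 hcon).trans h1
      revert h4
      norm_num
    exact (pow_dvd_pow 3 (show m ≤ 1 by omega)).trans (by norm_num)
  have hcard := card_mul_relIndex' (K := C ⊓ R) (L := R) inf_le_right
  rw [inf_relIndex_right] at hcard
  by_cases htN : (t : ℤ) ∣ (q : ℤ) ^ 2 + ε * q + 1
  · -- `|C_R(B)| ≤ 9`
    exfalso
    obtain ⟨B0, hB0, hL⟩ := exists_B0 hq hK h3F hε hqε ht ht5 htN
    obtain ⟨g, hg⟩ := exists_conj_le ht hB0 hBt hBi'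
    have h9 := hL ((C ⊓ R).map (MulAut.conj g⁻¹).toMonoidHom)
      ((hRp.of_injective (inclusion (inf_le_right : C ⊓ R ≤ R)) (inclusion_injective _)).map _) (by
        rintro _ ⟨y, hy, rfl⟩
        rw [mem_centralizer_iff]
        intro x hx
        show x * (g⁻¹ * y * g⁻¹⁻¹) = g⁻¹ * y * g⁻¹⁻¹ * x
        have h1 := mem_centralizer_iff.1 hy.1 _ (hg x hx)
        calc x * (g⁻¹ * y * g⁻¹⁻¹) = g⁻¹ * (g * x * g⁻¹ * y) * g := by group
          _ = g⁻¹ * (y * (g * x * g⁻¹)) * g := by rw [h1]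
          _ = _ := by group)
    rw [card_map_of_injective (MulAut.conj g⁻¹).injective] at h9
    have h81 : 81 ∣ Nat.card R := by
      have h1 : 81 ∣ Nat.card R * R.index := by
        rw [R.card_mul_index, Cfsg.Agent.S1067.result hq hK]
        exact card_dvd hq3
      exact (Nat.Coprime.pow_left 4 ((Nat.Prime.coprime_iff_not_dvd Nat.prime_three).2 hRi)).dvd_of_dvd_mul_right h1
    have h27 : Nat.card R ≤ 9 * 3 := by
      rw [← hcard]
      exact Nat.mul_le_mul h9 (Nat.le_of_dvd (by norm_num) hidx)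
    have := Nat.le_of_dvd Nat.card_pos h81
    omega
  · -- `a` centralises a Sylow `3`-subgroup
    by_contra hwb
    have hwC : w ∉ C := fun h => hwb (mem_centralizer_iff.1 h b hbB).symm
    have hRa : ∀ y ∈ R, y * a = a * y := by
      have hJ : R ≤ (C ⊓ R) ⊔ zpowers w := by
        have h1 : (C ⊓ R) ⊔ zpowers w ≤ R := sup_le inf_le_right (zpowers_le.2 hwR)
        have h2' : (C ⊓ R).relIndex ((C ⊓ R) ⊔ zpowers w) * ((C ⊓ R) ⊔ zpowers w).relIndex R = C.relIndex R := by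
          rw [relIndex_mul_relIndex _ _ _ le_sup_left h1, inf_relIndex_right]
        have h3' : (C ⊓ R).relIndex ((C ⊓ R) ⊔ zpowers w) ≠ 1 := by
          intro h
          rw [relIndex_eq_one] at h
          exact hwC (h (mem_sup_right (mem_zpowers _))).1
        have h4 : ((C ⊓ R) ⊔ zpowers w).relIndex R = 1 := by
          rcases (Nat.dvd_prime Nat.prime_three).1 (((Dvd.intro _ h2').trans hidx)) with h | h
          · exact absurd h h3'
          · rw [h] at h2'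
            have h5 : 3 * ((C ⊓ R) ⊔ zpowers w).relIndex R ∣ 3 * 1 := by rw [h2']; exact hidx
            exact Nat.dvd_one.1 (Nat.dvd_of_mul_dvd_mul_left (by norm_num) h5)
        exact relIndex_eq_one.1 h4
      have hCa : (C ⊓ R) ⊔ zpowers w ≤ centralizer {a} := by
        refine sup_le (fun y hy => ?_) (zpowers_le.2 ?_)
        · rw [mem_centralizer_singleton_iff]
          exact (mem_centralizer_iff.1 hy.1 a haB).symm
        · rw [mem_centralizer_singleton_iff]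
          exact hwa
      intro y hy
      exact mem_centralizer_singleton_iff.1 (hCa (hJ hy))
    obtain ⟨P0, hP0, hP⟩ := exists_P0 hq hK h3F hε hqε
    obtain ⟨g, hg⟩ := exists_conj_le Nat.prime_three hP0 hRp hRi
    have hoa : orderOf (g⁻¹ * a * g⁻¹⁻¹) = t := by rw [← hao]; exact (MulAut.conj g⁻¹).orderOf_eq a
    have h1 := hP (g⁻¹ * a * g⁻¹⁻¹) (fun x hx => by
      have h2 := hRa _ (hg x hx)
      calc x * (g⁻¹ * a * g⁻¹⁻¹) = g⁻¹ * (g * x * g⁻¹ * a) * g := by group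
        _ = g⁻¹ * (a * (g * x * g⁻¹)) * g := by rw [h2]
        _ = _ := by group) (by rw [hoa]; exact (Nat.coprime_primes ht Nat.prime_three).2 ht3)
    have h5 := orderOf_dvd_iff_zpow_eq_one.2 h1
    rw [hoa] at h5
    have h6 := (Int.Prime.dvd_mul' ht h5)
    rcases h6 with h6 | h6
    · have h7 : t ∣ 3 := by exact_mod_cast h6
      exact ht3 ((Nat.prime_dvd_prime_iff_eq ht Nat.prime_three).1 h7)
    · exact htN h6

end

/-- **`³D₄(q)`, `2, p ∉ π`** -/
theorem rowM_d4_odd {π : Set ℕ} {S : Type u} [Group S] {p : ℕ} (h2 : 2 ∉ π) (hpπ : p ∉ π) {F : Type} [Field F]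
    [Fintype F] [CharP F p] {q : ℕ} (hq : IsPrimePow q) (hF : Fintype.card F = q ^ 3)
    (h : Nonempty (S ≃* twistedD4 F q)) : RowM π S := by
  obtain ⟨e⟩ := h
  exact rowM_congr e.symm (rowM_d4_core (p := p) h2 hpπ hq hF)

end Cfsg.Agent.H169.RM.DFour
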