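import Cfsg.Agent.H169.RM.Brk
import Cfsg.Agent.H167.RM.TorB
import Cfsg.Agent.H750.RM.Eig

/-!
# S3849: the JOINT EIG engine (helper169)

`fix_good` : `C` abelian, `y` normalises `C`, everything commutes with a set `S` of toral elements; if the values of `y`
at the roots with a given restriction to `S` do not fill a coset of `μ_s` then the commutators `[y, a]`, `a ∈ C`, fix
the corresponding root vectors.
-/

set_option autoImplicit false
set_option linter.unusedSectionVars false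

namespace Cfsg.Agent.H169.RM

open CoxeterSystem Cfsg Cfsg.Lie Cfsg.Lie.ChevalleyDatum
open Cfsg.Agent.ChevalleyStructure Cfsg.Agent.ChevalleyStructure.Elts Cfsg.Agent.ChevalleyStructure.CoxeterGeom
  Cfsg.Agent.ChevalleyStructure.CoxeterGeomTypes Cfsg.Agent.ChevalleyStructure.NPerm
open Cfsg.Agent.Tits.Roots Cfsg.Agent.Tits.Core Cfsg.Agent.Nodes Cfsg.Agent.Nodes.Reps Cfsg.Agent.Nodes.BNOf
  Cfsg.Agent.Nodes.RGDChev Cfsg.Agent.Nodes.Bruhat Cfsg.Agent.Nodes.NormalForm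
open Cfsg.Agent.KFacts.RgdField Cfsg.Agent.KFacts.RgdChevCoord
open Cfsg.Agent.BpExc Cfsg.Agent.BpExc.TorCent Cfsg.Agent.BpExc.TorChev Cfsg.Agent.BpExc.Tow
  Cfsg.Agent.BpExc.TowChev Cfsg.Agent.BpExc.Fr Cfsg.Agent.BpExc.Pair Cfsg.Agent.BpExc.LangFr Cfsg.Agent.GpExc.Field
  Cfsg.Agent.BpExc.TorAll
open Cfsg.Agent.H469.Exc Cfsg.Agent.H469.Exc.SigFr
open Cfsg.Agent.Nodes.RGDFoldSL
open Cfsg.Agent.ChevalleyStructure.SL2Hom (up lo mem_closure_SL2)
open Cfsg.Agent.H167.EX Cfsg.Agent.H167.RV Cfsg.Agent.H971.RV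
open Module

universe u v

/-- restriction of a representation to an invariant subspace -/
def resU {k : Type u} [Field k] {V : Type v} [AddCommGroup V] [Module k V] {H : Type*} [Group H] (ρ : H →* End k V)
    (U : Submodule k V) (hU : ∀ g, ∀ w ∈ U, ρ g w ∈ U) : H →* End k U where
  toFun g := (ρ g).restrict (hU g)
  map_one' := by
    ext w
    simp
  map_mul' g h := by
    ext w
    simp

theorem resU_apply {k : Type u} [Field k] {V : Type v} [AddCommGroup V] [Module k V] {H : Type*} [Group H]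
    (ρ : H →* End k V) (U : Submodule k V) (hU : ∀ g, ∀ w ∈ U, ρ g w ∈ U) (g : H) (w : U) :
    ((resU ρ U hU g w : U) : V) = ρ g w := rfl

variable {D : ChevalleyDatum} {l : ℕ} {M : CoxeterMatrix (Fin l)} (hp : IsType D l M) {k : Type u} [Field k]

/-- the action of a toral element -/
theorem rho_TT (p : ℕ) [Fact p.Prime] [CharP k p] (hk : LocFin k) {t : ↥(D.group k)} (ht : t ∈ TT D k)
    (w : D.Idx → k) (x : D.Idx) : rho D k t w x = H892.El.dd hp t x * w x := by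
  rw [rho_apply, H892.El.coe_TT hp (r := p) hk ht, Matrix.mulVec_diagonal]

theorem fix_good [IsAlgClosed k] (p : ℕ) [Fact p.Prime] [CharP k p] (hk : LocFin k) {s : ℕ} (hsp : s.Prime)
    (hsk : (s : k) ≠ 0) {G : Type v} [Group G] (f : G →* ↥(D.group k)) {C : Subgroup G}
    (hC : ∀ a ∈ C, ∀ b ∈ C, a * b = b * a) (hcard : (Nat.card C : k) ≠ 0) {y : G} (hyT : f y ∈ TT D k)
    (hys : y ^ s = 1) (hyC : ∀ a ∈ C, y * a * y⁻¹ ∈ C) {S : Set ↥(D.group k)} (hS : ∀ t ∈ S, t ∈ TT D k)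
    (hCS : ∀ a ∈ C, ∀ t ∈ S, f a * t = t * f a) {d : ℕ} (hd : d < D.nroots)
    (hnt : ∃ t ∈ S, ch hp (vec D l d) t ≠ 1) {x : k} (hx : x ^ s = 1)
    (hmiss : ∀ d' < D.nroots, (∀ t ∈ S, ch hp (vec D l d') t = ch hp (vec D l d) t) →
      ch hp (vec D l d') (f y) ≠ ch hp (vec D l d) (f y) * x) :
    ∀ a ∈ C, rho D k (f (y * a * y⁻¹ * a⁻¹)) (ev k hd) = ev k hd := by
  classical
  -- the subspace
  let U : Submodule k (D.Idx → k) :=
    { carrier := {w | ∀ t ∈ S, rho D k t w = ch hp (vec D l d) t • w}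
      zero_mem' := fun t _ => by rw [map_zero, smul_zero]
      add_mem' := fun {w w'} hw hw' t ht => by rw [map_add, hw t ht, hw' t ht, smul_add]
      smul_mem' := fun c w hw t ht => by rw [map_smul, hw t ht, smul_comm] }
  have hUdef : ∀ w, w ∈ U ↔ ∀ t ∈ S, rho D k t w = ch hp (vec D l d) t • w := fun w => Iff.rfl
  -- coordinates of the vectors of `U`
  have hsupp : ∀ w ∈ U, ∀ z : D.Idx, w z ≠ 0 → ∃ d' : Fin D.nroots, z = Sum.inr d' ∧
      ∀ t ∈ S, ch hp (vec D l d') t = ch hp (vec D l d) t := by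
    intro w hw z hz
    have h1 : ∀ t ∈ S, H892.El.dd hp t z = ch hp (vec D l d) t := by
      intro t ht
      have h2 := congrFun (hw t ht) z
      rw [rho_TT hp p hk (hS t ht), Pi.smul_apply, smul_eq_mul] at h2
      exact mul_right_cancel₀ hz h2
    rcases z with i | d'
    · exfalso
      obtain ⟨t, ht, hne⟩ := hnt
      exact hne (h1 t ht).symm
    · exact ⟨d', rfl, h1⟩
  have hevU : ev k hd ∈ U := by
    intro t ht
    funext z
    rw [rho_TT hp p hk (hS t ht), Pi.smul_apply, smul_eq_mul]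
    by_cases hz : z = Sum.inr ⟨d, hd⟩
    · rw [hz]
      rfl
    · rw [ev, Pi.single_eq_of_ne hz, mul_zero, mul_zero]
  -- the group commuting with `S`
  let H : Subgroup G :=
    { carrier := {g | ∀ t ∈ S, f g * t = t * f g}
      one_mem' := fun t _ => by rw [map_one, one_mul, mul_one]
      mul_mem' := fun {a b} ha hb t ht => by rw [map_mul, mul_assoc, hb t ht, ← mul_assoc, ha t ht, mul_assoc]
      inv_mem' := fun {a} ha t ht => by
        rw [map_inv, inv_mul_eq_iff_eq_mul, ← mul_assoc, ha t ht, mul_assoc, mul_inv_cancel, mul_one] }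
  have hyH : y ∈ H := fun t ht => TT_comm hp _ hyT _ (hS t ht)
  have hCH : C ≤ H := fun a ha t ht => hCS a ha t ht
  have hUH : ∀ g : H, ∀ w ∈ U, ((rho D k).comp (f.comp H.subtype)) g w ∈ U := by
    intro g w hw t ht
    show rho D k t (rho D k (f g) w) = ch hp (vec D l d) t • rho D k (f g) w
    have h1 : rho D k t (rho D k (f g) w) = rho D k (t * f g) w := by rw [map_mul]; rfl
    rw [h1, ← g.2 t ht, map_mul, Module.End.mul_apply, hw t ht, map_smul]
  set ρ := resU ((rho D k).comp (f.comp H.subtype)) U hUH with hρ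
  have hyU : ∀ (c : k) (w : U), w ≠ 0 → ρ ⟨y, hyH⟩ w = c • w → ∃ d' < D.nroots,
      (∀ t ∈ S, ch hp (vec D l d') t = ch hp (vec D l d) t) ∧ c = ch hp (vec D l d') (f y) := by
    intro c w hw hcw
    have hw' : (w : D.Idx → k) ≠ 0 := fun h => hw (Subtype.ext h)
    obtain ⟨z, hz⟩ := Function.ne_iff.1 hw'
    obtain ⟨d', rfl, h1⟩ := hsupp w w.2 z hz
    refine ⟨d', d'.2, h1, ?_⟩
    have h2 := congrArg (fun u : U => (u : D.Idx → k) (Sum.inr d')) hcw
    have h3 : rho D k (f y) w (Sum.inr d') = c * (w : D.Idx → k) (Sum.inr d') := h2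
    rw [rho_TT hp p hk hyT] at h3
    exact (mul_right_cancel₀ hz h3).symm
  have hval : ∀ d' < D.nroots, ch hp (vec D l d') (f y) ^ s = 1 := by
    intro d' hd'
    rw [← ch_pow hp p hk hd' hyT, ← map_pow, hys, map_one, ch_one hp p hk hd']
  have hval0 : ch hp (vec D l d) (f y) ≠ 0 := by
    intro h
    have := hval d hd
    rw [h, zero_pow hsp.ne_zero] at this
    exact zero_ne_one this
  have hcomm := Cfsg.Agent.H750.RM.eig_core ρ (A := C.subgroupOf H) (r := s) (z := ⟨y, hyH⟩) (m := 1)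
    (fun a ha b hb => Subtype.ext (hC a ha b hb))
    (by rwa [Nat.card_congr (Subgroup.subgroupOfEquivOfLe hCH).toEquiv]) hsp hsk
    (fun a ha => hyC a ha)
    (fun a _ => by
      have h1 : (⟨y, hyH⟩ : H) ^ s ^ 1 = 1 := Subtype.ext (by rw [pow_one]; exact hys)
      rw [h1, map_one, one_mul, mul_one])
    (by
      intro c hc
      by_cases h1 : (ρ ⟨y, hyH⟩).HasEigenvalue c
      · obtain ⟨w, hw⟩ := h1.exists_hasEigenvector
        obtain ⟨d1, hd1, -, e1⟩ := hyU c w hw.2 hw.apply_eq_smul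
        have hcs : c ^ s = 1 := by rw [e1]; exact hval d1 hd1
        refine ⟨c⁻¹ * (ch hp (vec D l d) (f y) * x), ?_, ?_⟩
        · rw [mul_pow, inv_pow, hcs, inv_one, one_mul, mul_pow, hval d hd, hx, one_mul]
        · rw [mul_inv_cancel_left₀ hc]
          intro h2
          obtain ⟨w, hw⟩ := h2.exists_hasEigenvector
          obtain ⟨d', hd', h3, e3⟩ := hyU _ w hw.2 hw.apply_eq_smul
          exact hmiss d' hd' h3 e3.symm
      · exact ⟨1, one_pow _, by rwa [mul_one]⟩)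
  intro a ha
  have h1 := hcomm ⟨a, hCH ha⟩ ha
  rw [← map_mul, ← map_mul] at h1
  have h2 := congrArg (fun T : End k U => ((T (ρ (⟨a, hCH ha⟩ * ⟨y, hyH⟩ : H)⁻¹ ⟨ev k hd, hevU⟩) : U) : D.Idx → k)) h1
  have h3 : rho D k (f (y * a)) (rho D k (f (a * y)⁻¹) (ev k hd)) =
      rho D k (f (a * y)) (rho D k (f (a * y)⁻¹) (ev k hd)) := h2
  have h4 : ∀ g g' : G, ∀ w, rho D k (f g) (rho D k (f g') w) = rho D k (f (g * g')) w := by
    intro g g' w
    rw [map_mul, map_mul]; rfl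
  have h5 : f (a * y)⁻¹ = f ((a * y)⁻¹) := rfl
  rw [h4, h4] at h3
  have e1 : y * a * (a * y)⁻¹ = y * a * y⁻¹ * a⁻¹ := by group
  have e2 : a * y * (a * y)⁻¹ = 1 := mul_inv_cancel _
  rw [e1, e2, map_one, map_one] at h3
  exact h3

/-! ### hyperplanes -/

theorem TT_of_closure {G : Type v} [Group G] {f : G →* ↥(D.group k)} {m : ℕ} {y : Fin m → G}
    (hyT : ∀ j, f (y j) ∈ TT D k) : ∀ a ∈ Subgroup.closure (Set.range y), f a ∈ TT D k := by
  have h1 : Subgroup.closure (Set.range y) ≤ (TT D k).comap f := by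
    rw [Subgroup.closure_le]
    rintro _ ⟨j, rfl⟩
    exact hyT j
  exact h1

open Cfsg.Agent.H795.NotAbT Cfsg.Agent.H129.TorusChar Cfsg.Agent.H512.LinFour.IdealF in
/-- **the hyperplane step** -/
theorem step_hyp [IsAlgClosed k] (p : ℕ) [Fact p.Prime] [CharP k p] (hk : LocFin k) {s : ℕ} (hsp : s.Prime)
    (hsk : (s : k) ≠ 0) {ζ : k} (hζ : IsPrimitiveRoot ζ s) {d₀ : ℕ} {Bi : Fin l → Fin l → ℤ} (hB : InvC D l d₀ Bi)
    (hd₀ : d₀ ≠ 0) (L : Lac D) {m : ℕ} {e : Fin m → ℕ → ℤ} (K : ChkF D l s e)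
    {G : Type v} [Group G] [Finite G] (f : G →* ↥(D.group k)) (hf : Function.Injective f) {y : Fin m → G}
    (hyT : ∀ j, f (y j) ∈ TT D k) (hch : ∀ j, ∀ b < D.nroots, ch hp (vec D l b) (f (y j)) = ζ ^ e j b)
    {B₀ : Subgroup G} (hB₀ : B₀ ≤ Subgroup.closure (Set.range y)) (hB₀s : ∀ β ∈ B₀, β ^ s = 1) {y₀ : G}
    (hy₀ : y₀ ∈ Subgroup.closure (Set.range y)) (hy₀s : y₀ ^ s = 1) {β : Fin m → G} (hβ : ∀ j, β j ∈ B₀) {ψ : Fin m → ℤ}
    (hjψ : ∀ j, y j = β j * y₀ ^ ψ j) (hψ : ∃ j, ¬ (s : ℤ) ∣ ψ j) {C : Subgroup G}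
    (hC : ∀ a ∈ C, ∀ b ∈ C, a * b = b * a) (hcard : (Nat.card C : k) ≠ 0)
    (hsC : ¬ s ∣ Nat.card C) (hyC : ∀ a ∈ C, y₀ * a * y₀⁻¹ ∈ C)
    (hCB : ∀ a ∈ C, ∀ b ∈ B₀, a * b = b * a) : ∀ a ∈ C, y₀ * a = a * y₀ := by
  have hYT := TT_of_closure hyT
  have hB₀T : ∀ b ∈ B₀, f b ∈ TT D k := fun b hb => hYT b (hB₀ hb)
  have hy₀T := hYT y₀ hy₀
  -- values at `y₀`
  have hval : ∀ b < D.nroots, ∃ c : ℤ, ch hp (vec D l b) (f y₀) = ζ ^ c := by
    intro b hb
    have h1 : ch hp (vec D l b) (f y₀) ^ s = 1 := by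
      rw [← ch_pow hp p hk hb hy₀T, ← map_pow, hy₀s, map_one, ch_one hp p hk hb]
    have : NeZero s := ⟨hsp.ne_zero⟩
    obtain ⟨c, -, hc⟩ := hζ.eq_pow_of_pow_eq_one h1
    exact ⟨c, by rw [zpow_natCast, hc]⟩
  have hzj : ∀ (j : Fin m) (b : ℕ), b < D.nroots → ch hp (vec D l b) (f (y j)) =
      ch hp (vec D l b) (f (β j)) * ch hp (vec D l b) (f y₀) ^ ψ j := by
    intro j b hb
    conv_lhs => rw [hjψ j]
    rw [map_mul, ch_mul hp p hk hb (hB₀T _ (hβ j)) (by rw [map_zpow]; exact zpow_mem hy₀T _), map_zpow,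
      ch_zpow' hp p hk hb hy₀T]
  -- roots trivial on `B₀`
  have hOn : ∀ b < D.nroots, (∀ a ∈ B₀, ch hp (vec D l b) (f a) = 1) → OnL s e ψ b := by
    intro b hb h1
    obtain ⟨c, hc⟩ := hval b hb
    refine ⟨c, fun j => ?_⟩
    apply zpow_prim hsp hζ
    rw [← hch j b hb, hzj j b hb, h1 _ (hβ j), one_mul, hc, ← zpow_mul]
  obtain ⟨n, μ, hμ, hgen⟩ := K.line ψ hψ
  -- the toral elements trivial on these roots
  set S : Set ↥(D.group k) := {t | t ∈ TT D k ∧ ∀ b < D.nroots, (∀ a ∈ B₀, ch hp (vec D l b) (f a) = 1) →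
    ch hp (vec D l b) t = 1} with hS
  have hBS : ∀ b ∈ B₀, f b ∈ S := fun b hb => ⟨hB₀T b hb, fun b' _ h => h b hb⟩
  have hX1 : ∀ {b : ℕ} (hb : b < D.nroots), ∀ g ∈ XX D l k (vec D l b), ∃ t : k, g = xs hp.inList b t := by
    intro b hb g hg
    obtain ⟨t, ht⟩ := (LangThm.mem_XX_vec hp hb).1 hg
    exact ⟨t, Subtype.ext ht⟩
  have hCS : ∀ a ∈ C, ∀ t ∈ S, f a * t = t * f a := by
    intro a ha t ht
    obtain ⟨n', hn'⟩ := pow_mem_set hp hk p (S := f '' (B₀ : Set G)) (by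
      rintro _ ⟨b, hb, rfl⟩
      exact hB₀T b hb) hsp (by
      rintro _ ⟨b, hb, rfl⟩
      exact ⟨1, by rw [pow_one, ← map_pow, hB₀s b hb, map_one]⟩) (g := f a) (by
      rintro _ ⟨b, hb, rfl⟩
      rw [← map_mul, hCB a ha b hb, map_mul])
    have h1 : f a ∈ SetC.MMs M.toCoxeterSystem hp.isCartan (XX D l k) (ch hp) (f '' (B₀ : Set G)) ⊔ TT D k := by
      refine mem_of_pow_cop (m := Nat.card C) (n := s ^ n') ?_ ?_ hn'
      · exact Nat.Coprime.pow_right _ ((Nat.Prime.coprime_iff_not_dvd hsp).2 hsC).symm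
      · have h2 : (⟨a, ha⟩ : C) ^ Nat.card C = 1 := pow_card_eq_one'
        have h3 : a ^ Nat.card C = 1 := congrArg Subtype.val h2
        rw [← map_pow, h3, map_one]
    have h2 : SetC.MMs M.toCoxeterSystem hp.isCartan (XX D l k) (ch hp) (f '' (B₀ : Set G)) ⊔ TT D k ≤
        Subgroup.centralizer {t} := by
      refine sup_le (RGD.Sup_le fun b hb => ?_) fun g hg => ?_
      · obtain ⟨b', hb', rfl⟩ := (isRoot_iff hp M.toCoxeterSystem b).1 hb.1
        have h3 : ch hp (vec D l b') t = 1 := ht.2 b' hb' fun a ha' => hb.2 _ ⟨a, ha', rfl⟩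
        intro g hg
        obtain ⟨c, rfl⟩ := hX1 hb' g hg
        rw [Subgroup.mem_centralizer_singleton_iff]
        exact (comm_xs_of_ch hp hb' ht.1 h3 c).symm
      · rw [Subgroup.mem_centralizer_singleton_iff]
        exact TT_comm hp _ hg _ ht.1
    exact Subgroup.mem_centralizer_singleton_iff.1 (h2 h1)
  -- the functionals `μ` on roots equal on `S`
  have hμS : ∀ d < D.nroots, ∀ d' < D.nroots, (∀ t ∈ S, ch hp (vec D l d') t = ch hp (vec D l d) t) →
      ∀ i, ∑ j, μ i j * vec D l d' j = ∑ j, μ i j * vec D l d j := by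
    intro d hd d' hd' h1 i
    by_contra hne
    obtain ⟨N, hN, hNp⟩ := Nat.exists_infinite_primes
      ((∑ j, μ i j * vec D l d' j - ∑ j, μ i j * vec D l d j).natAbs + p + 1)
    have hNf : Fact N.Prime := ⟨hNp⟩
    have hNk : (N : k) ≠ 0 := by
      intro h
      rw [CharP.cast_eq_zero_iff k p, Nat.prime_dvd_prime_iff_eq Fact.out hNp] at h
      omega
    have : NeZero (N : k) := ⟨hNk⟩
    have hN0 : NeZero N := ⟨hNp.ne_zero⟩
    obtain ⟨η, hη⟩ := HasEnoughRootsOfUnity.exists_primitiveRoot k N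
    let c : (Fin l → ℤ) →+ ZMod N :=
      { toFun := fun x => ((∑ j, μ i j * x j : ℤ) : ZMod N)
        map_zero' := by simp
        map_add' := fun x z => by
          rw [← Int.cast_add, ← Finset.sum_add_distrib]
          congr 1
          exact Finset.sum_congr rfl fun i _ => by rw [Pi.add_apply, mul_add] }
    obtain ⟨t, ht, htc⟩ := exists_tor (hp := hp) hB hd₀ hη c
    have htS : t ∈ S := by
      refine ⟨ht, fun b hb h2 => ?_⟩
      rw [← cX_vec hp ht hb, htc]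
      have h3 : c (vec D l b) = 0 := by
        show ((∑ j, μ i j * vec D l b j : ℤ) : ZMod N) = 0
        rw [hμ b hb (hOn b hb h2) i, Int.cast_zero]
      rw [h3, ZMod.val_zero, pow_zero]
    have h2 := h1 t htS
    rw [← cX_vec hp ht hd, ← cX_vec hp ht hd', htc, htc] at h2
    have h3 := pow_val_inj hη h2
    have h4 : ((∑ j, μ i j * vec D l d' j : ℤ) : ZMod N) = ((∑ j, μ i j * vec D l d j : ℤ) : ZMod N) := h3
    rw [ZMod.intCast_eq_intCast_iff_dvd_sub, ← dvd_neg, neg_sub] at h4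
    have h5 := Int.natAbs_dvd_natAbs.2 h4
    rw [Int.natAbs_natCast] at h5
    have h6 := Nat.le_of_dvd (Int.natAbs_pos.2 (sub_ne_zero.2 hne)) h5
    omega
  intro a ha
  -- good roots
  have hgood : ∀ d, Gd D l s e ψ μ d → ∀ hd : d < D.nroots, rho D k (f (y₀ * a * y₀⁻¹ * a⁻¹)) (ev k hd) = ev k hd := by
    rintro d ⟨-, hdO, c, hc⟩ hd
    refine fix_good hp p hk hsp hsk f hC hcard hy₀T hy₀s hyC (S := S) (fun t ht => ht.1) hCS hd ?_ (x := ζ ^ c) ?_ ?_ a ha
    · by_contra hcon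
      push Not at hcon
      exact hdO (hOn d hd fun b hb => hcon _ (hBS b hb))
    · rw [← zpow_natCast, ← zpow_mul, mul_comm, zpow_mul, zpow_natCast, hζ.pow_eq_one, one_zpow]
    · intro d' hd' h1 h2
      refine hc d' hd' (hμS d hd d' hd' h1) fun j => ?_
      have h3 : ζ ^ e j d' = ζ ^ (e j d + c * ψ j) := by
        rw [zpow_add₀ (hζ.ne_zero hsp.ne_zero), ← hch j d' hd', ← hch j d hd, hzj j d' hd', hzj j d hd,
          h1 _ (hBS _ (hβ j)), h2, mul_zpow, ← zpow_mul, mul_assoc]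
      have h4 := zpow_prim hsp hζ h3
      have e1 : e j d' - (e j d + c * ψ j) = e j d' - e j d - c * ψ j := by ring
      rwa [e1] at h4
  have hC' : RootVecTab.Checked D := RootVecTab.checked_of_mem L.inList
  have hneg : ∀ r < D.nroots, D.neg r ≠ r ∧ D.neg r < D.nroots := by
    intro r hr
    refine ⟨fun h => ?_, neg_lt hp.inList hr⟩
    have h1 := vec_neg hp hr
    rw [h] at h1
    have h2 : vec D l r = 0 := by
      funext i
      have := congrFun h1 i
      rw [Pi.neg_apply] at this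
      rw [Pi.zero_apply]
      omega
    exact (isRoot_vec hp M.toCoxeterSystem hr).ne_zero h2
  have hfix : ∀ d (hd : d < D.nroots), rho D k (f (y₀ * a * y₀⁻¹ * a⁻¹)) (ev k hd) = ev k hd := by
    intro d hd
    rcases hgen d hd with h | ⟨b, c, hb, hc, hst⟩
    · exact hgood d h hd
    · obtain ⟨ε, hε, h2⟩ := br_stp (k := k) (l := l) hC' hb.1 hc.1 hd (fun r hr t ht h => vec_inj hp hr ht h) hst
      have h3 := rho_br L.inList (f (y₀ * a * y₀⁻¹ * a⁻¹)) (ev k hb.1) (ev k hc.1)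
      rw [hgood b hb hb.1, hgood c hc hc.1, h2, map_smul] at h3
      exact smul_right_injective _ hε h3
  have h1 := eq_one_of_fix L hneg hfix
  have h2 : y₀ * a * y₀⁻¹ * a⁻¹ = 1 := hf (by rw [h1, map_one])
  rw [mul_inv_eq_one, mul_inv_eq_iff_eq_mul] at h2
  exact h2

end Cfsg.Agent.H169.RM
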