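import Cfsg.Agent.H169.RM.ChkG

/-!
# S3849: the checks for `E₆`, `s = 5` (helper169)
-/

set_option autoImplicit false
set_option maxRecDepth 100000

namespace Cfsg.Agent.H169.RM

open Cfsg Cfsg.Lie Cfsg.Lie.ChevalleyDatum Cfsg.Agent.ChevalleyStructure Cfsg.Agent.Nodes.RGDChev

/-- the functionals -/
def Nf65 : Fin 2 → Fin 6 → ℤ :=
  ![![4, 1, 0, 3, 1, 0], ![0, 2, 4, 1, 0, 1]]

def N65 : List (List ℤ) :=
  [[4, 1, 0, 3, 1, 0], [0, 2, 4, 1, 0, 1]]

def E65 : List (List ℕ) :=
  [[3, 4], [4, 1], [2, 2], [3, 2], [3, 3], [2, 1], [3, 1], [3, 2], [1, 2], [1, 3], [2, 3], [2, 4], [2, 0], [3, 0],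
  [1, 1], [1, 0], [1, 1], [2, 1], [2, 2], [0, 2], [0, 3], [1, 3], [0, 1], [0, 2], [1, 2], [4, 3], [1, 4], [1, 0],
  [2, 0], [0, 1], [1, 3], [1, 4], [2, 4], [4, 4], [4, 0], [0, 4], [0, 1], [1, 0], [1, 1], [3, 1], [4, 1], [4, 2],
  [0, 4], [3, 0], [4, 0], [4, 1], [1, 2], [4, 3], [0, 3], [0, 4], [4, 2], [0, 2], [0, 3], [3, 3], [3, 4], [4, 4],
  [4, 0], [4, 4], [2, 0], [3, 0], [3, 1], [3, 2], [4, 2], [4, 3], [2, 3], [2, 4], [3, 4], [2, 2], [2, 3], [3, 3],
  [1, 4], [2, 1]]

def D65 : List (List (ℕ × ℕ)) :=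
  [[(5, 21), (2, 24)], [(3, 31), (2, 32)], [(3, 34)], [(2, 37)], [(2, 38), (3, 36)], [(2, 42)], [(8, 32), (3,
  42)], [(5, 38)], [(3, 43)], [(2, 45)], [(3, 45), (8, 38)], [(3, 50)], [(2, 52)], [(12, 37), (3, 52)], [(3, 54)],
  [(7, 53)], [(2, 57), (5, 56)], [(3, 57)], [(7, 56)], [(2, 59)], [(19, 36), (2, 60)], [(3, 60)], [(19, 42), (5,
  59)], [(5, 60)], [(7, 59)], [(8, 60), (9, 59)], [(2, 62)], [(12, 56), (2, 63)], [(3, 63)], [(2, 66)], [(5, 62),
  (11, 57)], [(5, 63)], [(7, 62)], [(5, 64)], [(2, 68)], [(8, 62)], [(9, 63)], [(3, 69)], [(7, 66)], [(9, 64)],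
  [(8, 66)], [(9, 66), (14, 60)], [(5, 69)], [(8, 68)], [(15, 59), (8, 69)], [(9, 69)], [(11, 63), (12, 62)],
  [(12, 64)], [(11, 66)], [(29, 52), (12, 66)], [(11, 68)], [(35, 52), (11, 69)], [(12, 69)], [(15, 64)], [(14,
  68)], [(14, 69), (15, 66)], [(18, 64)], [(17, 68)], [(34, 59), (19, 68)], [(19, 69)], [(21, 68)], [(26, 68),
  (33, 63)], [(26, 69)], [(28, 68)], [(33, 66)], [(39, 63), (29, 68)], [(29, 69)], [(33, 69), (35, 68)], [(34,
  69)], [(37, 68)], [(40, 68), (39, 69)], [(50, 66), (47, 69)]]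

def P65 : List LD :=
  [⟨[0, 1], [4, 7, 0, -5, -2, 0], 8,
  1322278534341879203643554511248718247604855036564167623479313968623739446519212298074264110412410607544021876673086515838976,
  1862789161498152722214⟩, ⟨[1, 0], [0, 1, -4, 4, 0, 2], 8,
  333029538964558568918463804570826048236222120574848158342678529723770203591651754475974105988432234110062964539952149299200,
  3275608086612877789581⟩, ⟨[1, 1], [4, 8, -4, -1, -2, 2], 8,
  5288569433731158524136160911706137248609413795146600607080800071728721333461862877260790562169363831243508262336924775612416,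
  429559363540638929640⟩, ⟨[1, 2], [3, 0, 4, 0, -5, -2], 8,
  166560793795960839835554770309460937470061698455012051191551412129706015369497128761822451826378617770378026712753932075008,
  540275786411137536696⟩, ⟨[1, 3], [1, 7, -5, -2, -1, 3], 8,
  5265566209895760955273874193601998140681909403867803379893239985125858170719570739133076094661870282604146513955057041424,
  914713090946430167436⟩, ⟨[1, 4], [7, 1, -5, -3, 3, 5], 8,
  23015500207772612694303374194810678695197158174496095579475079303612878657740112457485417743352699327628513802369432756357695624,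
  679894512521300073252⟩]

theorem N65_eq : N65 = List.ofFn fun j => List.ofFn (Nf65 j) := by decide +kernel

theorem chkE_65 : chkE chevE6 6 5 N65 E65 = true := by decide +kernel

theorem chkD_65 : chkD chevE6 D65 = true := by decide +kernel

theorem chkC_65 : chkC 5 2 (P65.map LD.ps) = true := by decide +kernel

theorem okL_65 : (P65.all (okL chevE6 6 5 2 E65 D65)) = true := by decide +kernel

theorem chkF_65 : ChkF chevE6 6 5 (fun (j : Fin 2) b => ∑ i, Nf65 j i * vec chevE6 6 b i) :=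
  chkF_of (by norm_num) _ N65_eq chkE_65 chkD_65 okL_65 chkC_65

end Cfsg.Agent.H169.RM
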