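import Cfsg.Agent.H169.RM.ChkG

/-!
# S3849: the checks for `E₇`, `s = 5` (helper169)
-/

set_option autoImplicit false
set_option maxRecDepth 100000

namespace Cfsg.Agent.H169.RM

open Cfsg Cfsg.Lie Cfsg.Lie.ChevalleyDatum Cfsg.Agent.ChevalleyStructure Cfsg.Agent.Nodes.RGDChev

/-- the functionals -/
def Nf75 : Fin 2 → Fin 7 → ℤ :=
  ![![3, 4, 4, 2, 2, 1, 0], ![2, 3, 0, 4, 3, 0, 1]]

def N75 : List (List ℤ) :=
  [[3, 4, 4, 2, 2, 1, 0], [2, 3, 0, 4, 3, 0, 1]]

def E75 : List (List ℕ) :=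
  [[3, 4], [1, 1], [0, 1], [2, 0], [4, 3], [0, 3], [0, 4], [1, 3], [3, 1], [4, 1], [4, 2], [0, 0], [1, 0], [1, 1],
  [3, 3], [3, 4], [4, 4], [4, 0], [0, 0], [0, 1], [2, 3], [2, 4], [3, 4], [4, 2], [4, 3], [0, 3], [2, 1], [3, 0],
  [3, 1], [4, 1], [1, 4], [3, 3], [2, 3], [2, 2], [3, 2], [3, 3], [0, 0], [0, 1], [1, 1], [2, 4], [2, 0], [3, 0],
  [0, 3], [1, 4], [1, 0], [2, 0], [4, 3], [1, 2], [1, 2], [1, 3], [2, 3], [4, 1], [1, 0], [0, 2], [0, 3], [1, 3],
  [3, 1], [2, 1], [2, 2], [3, 2], [4, 4], [4, 0], [0, 4], [0, 1], [1, 0], [1, 1], [2, 3], [3, 3], [3, 4], [2, 4],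
  [4, 2], [0, 2], [0, 3], [4, 0], [1, 4], [3, 2], [4, 2], [4, 3], [4, 3], [1, 2], [3, 0], [4, 0], [4, 1], [0, 2],
  [2, 0], [3, 0], [3, 1], [4, 4], [0, 4], [0, 0], [2, 2], [2, 3], [3, 3], [3, 2], [2, 2], [4, 1], [1, 4], [2, 4],
  [2, 0], [3, 4], [0, 2], [1, 2], [1, 3], [2, 1], [3, 1], [3, 2], [0, 4], [0, 0], [1, 0], [1, 1], [2, 1], [2, 2],
  [4, 4], [4, 0], [0, 0], [1, 3], [1, 4], [2, 4], [4, 2], [0, 1], [0, 2], [1, 2], [3, 0], [0, 4], [4, 4], [2, 1]]

def D75 : List (List (ℕ × ℕ)) :=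
  [[(1, 32)], [(0, 93)], [(0, 94)], [(1, 74)], [(0, 96)], [(0, 97)], [(2, 72), (0, 98)], [(1, 83)], [(0, 100)],
  [(0, 101)], [(0, 102), (1, 86)], [(0, 103), (1, 87)], [(1, 88)], [(0, 105)], [(0, 106)], [(1, 91)], [(1, 92),
  (0, 108)], [(2, 87)], [(0, 110), (2, 88)], [(0, 111)], [(0, 112)], [(4, 86), (0, 113)], [(2, 92)], [(4, 88)],
  [(0, 116)], [(0, 117)], [(0, 118), (4, 92)], [(8, 88)], [(0, 120)], [(0, 121)], [(9, 91), (0, 122)], [(0, 123)],
  [(0, 124)], [(2, 103)], [(1, 110)], [(1, 111), (2, 105)], [(1, 112), (2, 106)], [(1, 113)], [(2, 108)], [(3,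
  106)], [(1, 116)], [(3, 108), (1, 117)], [(1, 118)], [(3, 112)], [(3, 113), (2, 116)], [(2, 117)], [(2, 118)],
  [(4, 117), (3, 118)], [(7, 106)], [(1, 120)], [(9, 105), (1, 121)], [(1, 122)], [(1, 123)], [(7, 112)], [(2,
  120), (7, 113)], [(2, 121)], [(2, 122)], [(33, 88)], [(3, 120)], [(3, 121)], [(17, 106)], [(4, 120)], [(12,
  112)], [(13, 113)], [(5, 121)], [(19, 108)], [(4, 122)], [(5, 122)], [(37, 92)], [(3, 123)], [(4, 123)], [(5,
  123), (12, 118)], [(13, 118)], [(2, 124)], [(3, 124)], [(20, 116), (4, 124)], [(5, 124)], [(19, 118)], [(8,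
  121), (7, 122)], [(7, 123)], [(8, 123)], [(12, 122), (9, 123)], [(13, 122)], [(7, 124)], [(17, 122), (8, 124)],
  [(9, 124)], [(19, 122)], [(17, 123)], [(12, 124)], [(13, 124), (19, 123)], [(14, 124), (20, 123)], [(15, 124)],
  [(22, 123)], [(1, 125)], [(2, 125)], [(34, 116), (3, 125)], [(4, 125)], [(5, 125)], [(37, 117)], [(7, 125), (33,
  121)], [(8, 125)], [(9, 125)], [(37, 121)], [(33, 123)], [(39, 121), (12, 125)], [(13, 125)], [(14, 125)], [(15,
  125), (37, 123)], [(38, 123)], [(33, 124), (17, 125)], [(34, 124)], [(19, 125)], [(20, 125)], [(37, 124)], [(22,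
  125), (38, 124)], [(23, 125), (39, 124)], [(24, 125)], [(25, 125)], [(42, 124)], [(53, 123), (27, 125)], [(28,
  125)], [(29, 125)], [(51, 124)], [(31, 125)], [(32, 125)], [(93, 124)]]

def P75 : List LD :=
  [⟨[0, 1], [-5, 1, 2, -3, 5, -2, 0], 6,
  4271974334685164131364568808140420302715316235768726618644430752923895116904438434445316728029696,
  72296586189701113885650106497529737627⟩, ⟨[1, 0], [-2, -5, 0, 3, 2, 0, -3], 6,
  133499191672184421470496672903539528674556651583413267476300046202594699658007206637769127378944,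
  36187839362172778519202147733058643766⟩, ⟨[1, 1], [2, -6, -2, 5, -2, 2, -2], 6,
  4172108381349735106907210889881188710806839207111533668981095871997843438232895243726151483392,
  60242809610698902875170693028047917741⟩, ⟨[1, 2], [-3, 0, -2, 0, 3, 2, -3], 6,
  8343842659095909795653122757862769378427318383347716249752845047720552039247231818236384509952,
  60243438366634253884784171307312583341⟩, ⟨[1, 3], [3, -1, -5, 3, -3, 5, -2], 6,
  17322840798798212289217923613580789051153855395133118228122167565433331621187612347505573892,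
  36146300353500960448812286130360181558⟩, ⟨[1, 4], [0, -1, 2, -2, 0, -2, 5], 6,
  2135987307461461307122548435720288387383549973520023132461393910813475507466650153418852982063136,
  72961200147979455147238108206087729627⟩]

theorem N75_eq : N75 = List.ofFn fun j => List.ofFn (Nf75 j) := by decide +kernel

theorem chkE_75 : chkE chevE7 7 5 N75 E75 = true := by decide +kernel

theorem chkD_75 : chkD chevE7 D75 = true := by decide +kernel

theorem chkC_75 : chkC 5 2 (P75.map LD.ps) = true := by decide +kernel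

theorem okL_75 : (P75.all (okL chevE7 7 5 2 E75 D75)) = true := by decide +kernel

theorem chkF_75 : ChkF chevE7 7 5 (fun (j : Fin 2) b => ∑ i, Nf75 j i * vec chevE7 7 b i) :=
  chkF_of (by norm_num) _ N75_eq chkE_75 chkD_75 okL_75 chkC_75

end Cfsg.Agent.H169.RM
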