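import Cfsg.Agent.H795.NotAbCert

/-!
# S3849: powers of the Coxeter element of the parabolic `E₆` in `E₆`, `E₇`, `E₈` (helper169)
-/

set_option autoImplicit false
set_option maxRecDepth 100000

namespace Cfsg.Agent.H169.RM

open CoxeterSystem Cfsg Cfsg.Lie Cfsg.Lie.ChevalleyDatum
open Cfsg.Agent.ChevalleyStructure Cfsg.Agent.ChevalleyStructure.Elts Cfsg.Agent.ChevalleyStructure.CoxeterGeom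
  Cfsg.Agent.ChevalleyStructure.CoxeterGeomTypes Cfsg.Agent.Nodes.RGDChev
open Cfsg.Agent.H129.WData Cfsg.Agent.H795.NotAbCert

namespace E6

/-- the Cartan matrix -/
def Am : Mat 6 :=
  ![![2, 0, -1, 0, 0, 0], ![0, 2, 0, -1, 0, 0], ![-1, 0, 2, -1, 0, 0], ![0, -1, -1, 2, -1, 0], ![0, 0, 0, -1,
  2, -1], ![0, 0, 0, 0, -1, 2]]

theorem hA : ∀ i j, Am i j = cartanOf chevE6 6 i j := by decide +kernel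

def cL : List (Fin 6 × Mat 6) :=
  [(0, ![![0, 0, 1, 0, 0, 0], ![1, 0, 1, 1, 0, 0], ![0, 1, 0, 1, 0, 0], ![0, 0, 0, 0, 1, 0], ![0, 0, 0, 0, 0,
  1], ![-1, -1, -1, -1, -1, -1]]), (1, ![![1, 0, 1, 0, 0, 0], ![0, 0, 1, 1, 0, 0], ![0, 1, 0, 1, 0, 0], ![0, 0,
  0, 0, 1, 0], ![0, 0, 0, 0, 0, 1], ![0, -1, -1, -1, -1, -1]]), (2, ![![1, 0, 1, 0, 0, 0], ![0, 1, 1, 1, 0, 0],
  ![0, 0, 0, 1, 0, 0], ![0, 0, 0, 0, 1, 0], ![0, 0, 0, 0, 0, 1], ![0, 0, -1, -1, -1, -1]]), (3, ![![1, 0, 0, 0,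
  0, 0], ![0, 1, 0, 1, 0, 0], ![0, 0, 1, 1, 0, 0], ![0, 0, 0, 0, 1, 0], ![0, 0, 0, 0, 0, 1], ![0, 0, 0, -1, -1,
  -1]]), (4, ![![1, 0, 0, 0, 0, 0], ![0, 1, 0, 0, 0, 0], ![0, 0, 1, 0, 0, 0], ![0, 0, 0, 1, 1, 0], ![0, 0, 0,
  0, 0, 1], ![0, 0, 0, 0, -1, -1]]), (5, ![![1, 0, 0, 0, 0, 0], ![0, 1, 0, 0, 0, 0], ![0, 0, 1, 0, 0, 0], ![0,
  0, 0, 1, 0, 0], ![0, 0, 0, 0, 1, 1], ![0, 0, 0, 0, 0, -1]])]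

theorem cOK : ChainOK Am cL := by decide +kernel

def c1M : Mat 6 :=
  ![![0, 0, 1, 0, 0, 0], ![1, 0, 1, 1, 0, 0], ![0, 1, 0, 1, 0, 0], ![0, 0, 0, 0, 1, 0], ![0, 0, 0, 0, 0, 1],
  ![-1, -1, -1, -1, -1, -1]]

/-- the Coxeter element of the parabolic `E₆` -/
noncomputable def c1 : CoxeterMatrix.E₆.Group := CoxeterMatrix.E₆.toCoxeterSystem.wordProd (cL.map Prod.fst)

theorem is_c1 (hp : IsType chevE6 6 CoxeterMatrix.E₆) : IsMat hp c1 c1M := by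
  have h := isMat_chain hp hA cOK
  have e : hd cL = c1M := rfl
  rw [e] at h
  exact h

def c2M : Mat 6 :=
  ![![0, 1, 0, 1, 0, 0], ![0, 1, 1, 1, 1, 0], ![1, 0, 1, 1, 1, 0], ![0, 0, 0, 0, 0, 1], ![-1, -1, -1, -1, -1,
  -1], ![0, 0, -1, -1, 0, 0]]

noncomputable def c2 : CoxeterMatrix.E₆.Group := c1 * c1

theorem is_c2 (hp : IsType chevE6 6 CoxeterMatrix.E₆) : IsMat hp c2 c2M :=
  (is_c1 hp).mul (is_c1 hp) (by decide +kernel)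

def c3M : Mat 6 :=
  ![![1, 0, 1, 1, 1, 0], ![1, 1, 1, 2, 1, 1], ![0, 1, 1, 1, 1, 1], ![-1, -1, -1, -1, -1, -1], ![0, 0, -1, -1,
  0, 0], ![0, -1, 0, -1, -1, 0]]

noncomputable def c3 : CoxeterMatrix.E₆.Group := c2 * c1

theorem is_c3 (hp : IsType chevE6 6 CoxeterMatrix.E₆) : IsMat hp c3 c3M :=
  (is_c2 hp).mul (is_c1 hp) (by decide +kernel)

def c4M : Mat 6 :=
  ![![0, 1, 1, 1, 1, 1], ![0, 0, 1, 1, 1, 0], ![0, 0, 0, 1, 0, 0], ![0, 0, -1, -1, 0, 0], ![0, -1, 0, -1, -1,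
  0], ![-1, 0, -1, -1, -1, -1]]

noncomputable def c4 : CoxeterMatrix.E₆.Group := c2 * c2

theorem is_c4 (hp : IsType chevE6 6 CoxeterMatrix.E₆) : IsMat hp c4 c4M :=
  (is_c2 hp).mul (is_c2 hp) (by decide +kernel)

def c6M : Mat 6 :=
  ![![0, 0, 0, 0, 1, 0], ![0, -1, 0, 0, 0, 0], ![0, 0, 0, 0, 0, 1], ![-1, 0, -1, -1, -1, -1], ![1, 0, 0, 0, 0,
  0], ![0, 0, 1, 0, 0, 0]]

noncomputable def c6 : CoxeterMatrix.E₆.Group := c3 * c3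

theorem is_c6 (hp : IsType chevE6 6 CoxeterMatrix.E₆) : IsMat hp c6 c6M :=
  (is_c3 hp).mul (is_c3 hp) (by decide +kernel)

def c8M : Mat 6 :=
  ![![-1, -1, -1, -1, -1, -1], ![0, -1, -1, -1, -1, 0], ![0, 0, -1, -1, 0, 0], ![0, 0, 1, 0, 0, 0], ![0, 1, 0,
  1, 0, 0], ![1, 0, 1, 1, 1, 0]]

noncomputable def c8 : CoxeterMatrix.E₆.Group := c4 * c4

theorem is_c8 (hp : IsType chevE6 6 CoxeterMatrix.E₆) : IsMat hp c8 c8M :=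
  (is_c4 hp).mul (is_c4 hp) (by decide +kernel)

def c9M : Mat 6 :=
  ![![0, 0, -1, -1, 0, 0], ![-1, -1, -1, -2, -1, -1], ![0, -1, 0, -1, -1, 0], ![0, 1, 0, 1, 0, 0], ![1, 0, 1,
  1, 1, 0], ![0, 1, 1, 1, 1, 1]]

noncomputable def c9 : CoxeterMatrix.E₆.Group := c6 * c3

theorem is_c9 (hp : IsType chevE6 6 CoxeterMatrix.E₆) : IsMat hp c9 c9M :=
  (is_c6 hp).mul (is_c3 hp) (by decide +kernel)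

end E6

namespace E7

/-- the Cartan matrix -/
def Am : Mat 7 :=
  ![![2, 0, -1, 0, 0, 0, 0], ![0, 2, 0, -1, 0, 0, 0], ![-1, 0, 2, -1, 0, 0, 0], ![0, -1, -1, 2, -1, 0, 0], ![0,
  0, 0, -1, 2, -1, 0], ![0, 0, 0, 0, -1, 2, -1], ![0, 0, 0, 0, 0, -1, 2]]

theorem hA : ∀ i j, Am i j = cartanOf chevE7 7 i j := by decide +kernel

def cL : List (Fin 7 × Mat 7) :=
  [(0, ![![0, 0, 1, 0, 0, 0, 0], ![1, 0, 1, 1, 0, 0, 0], ![0, 1, 0, 1, 0, 0, 0], ![0, 0, 0, 0, 1, 0, 0], ![0,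
  0, 0, 0, 0, 1, 0], ![-1, -1, -1, -1, -1, -1, 0], ![1, 1, 1, 1, 1, 1, 1]]), (1, ![![1, 0, 1, 0, 0, 0, 0], ![0,
  0, 1, 1, 0, 0, 0], ![0, 1, 0, 1, 0, 0, 0], ![0, 0, 0, 0, 1, 0, 0], ![0, 0, 0, 0, 0, 1, 0], ![0, -1, -1, -1,
  -1, -1, 0], ![0, 1, 1, 1, 1, 1, 1]]), (2, ![![1, 0, 1, 0, 0, 0, 0], ![0, 1, 1, 1, 0, 0, 0], ![0, 0, 0, 1, 0,
  0, 0], ![0, 0, 0, 0, 1, 0, 0], ![0, 0, 0, 0, 0, 1, 0], ![0, 0, -1, -1, -1, -1, 0], ![0, 0, 1, 1, 1, 1, 1]]),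
  (3, ![![1, 0, 0, 0, 0, 0, 0], ![0, 1, 0, 1, 0, 0, 0], ![0, 0, 1, 1, 0, 0, 0], ![0, 0, 0, 0, 1, 0, 0], ![0, 0,
  0, 0, 0, 1, 0], ![0, 0, 0, -1, -1, -1, 0], ![0, 0, 0, 1, 1, 1, 1]]), (4, ![![1, 0, 0, 0, 0, 0, 0], ![0, 1, 0,
  0, 0, 0, 0], ![0, 0, 1, 0, 0, 0, 0], ![0, 0, 0, 1, 1, 0, 0], ![0, 0, 0, 0, 0, 1, 0], ![0, 0, 0, 0, -1, -1,
  0], ![0, 0, 0, 0, 1, 1, 1]]), (5, ![![1, 0, 0, 0, 0, 0, 0], ![0, 1, 0, 0, 0, 0, 0], ![0, 0, 1, 0, 0, 0, 0],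
  ![0, 0, 0, 1, 0, 0, 0], ![0, 0, 0, 0, 1, 1, 0], ![0, 0, 0, 0, 0, -1, 0], ![0, 0, 0, 0, 0, 1, 1]])]

theorem cOK : ChainOK Am cL := by decide +kernel

def c1M : Mat 7 :=
  ![![0, 0, 1, 0, 0, 0, 0], ![1, 0, 1, 1, 0, 0, 0], ![0, 1, 0, 1, 0, 0, 0], ![0, 0, 0, 0, 1, 0, 0], ![0, 0, 0,
  0, 0, 1, 0], ![-1, -1, -1, -1, -1, -1, 0], ![1, 1, 1, 1, 1, 1, 1]]

/-- the Coxeter element of the parabolic `E₆` -/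
noncomputable def c1 : CoxeterMatrix.E₇.Group := CoxeterMatrix.E₇.toCoxeterSystem.wordProd (cL.map Prod.fst)

theorem is_c1 (hp : IsType chevE7 7 CoxeterMatrix.E₇) : IsMat hp c1 c1M := by
  have h := isMat_chain hp hA cOK
  have e : hd cL = c1M := rfl
  rw [e] at h
  exact h

def c2M : Mat 7 :=
  ![![0, 1, 0, 1, 0, 0, 0], ![0, 1, 1, 1, 1, 0, 0], ![1, 0, 1, 1, 1, 0, 0], ![0, 0, 0, 0, 0, 1, 0], ![-1, -1,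
  -1, -1, -1, -1, 0], ![0, 0, -1, -1, 0, 0, 0], ![1, 1, 2, 2, 1, 1, 1]]

noncomputable def c2 : CoxeterMatrix.E₇.Group := c1 * c1

theorem is_c2 (hp : IsType chevE7 7 CoxeterMatrix.E₇) : IsMat hp c2 c2M :=
  (is_c1 hp).mul (is_c1 hp) (by decide +kernel)

def c3M : Mat 7 :=
  ![![1, 0, 1, 1, 1, 0, 0], ![1, 1, 1, 2, 1, 1, 0], ![0, 1, 1, 1, 1, 1, 0], ![-1, -1, -1, -1, -1, -1, 0], ![0,
  0, -1, -1, 0, 0, 0], ![0, -1, 0, -1, -1, 0, 0], ![1, 2, 2, 3, 2, 1, 1]]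

noncomputable def c3 : CoxeterMatrix.E₇.Group := c2 * c1

theorem is_c3 (hp : IsType chevE7 7 CoxeterMatrix.E₇) : IsMat hp c3 c3M :=
  (is_c2 hp).mul (is_c1 hp) (by decide +kernel)

def c4M : Mat 7 :=
  ![![0, 1, 1, 1, 1, 1, 0], ![0, 0, 1, 1, 1, 0, 0], ![0, 0, 0, 1, 0, 0, 0], ![0, 0, -1, -1, 0, 0, 0], ![0, -1,
  0, -1, -1, 0, 0], ![-1, 0, -1, -1, -1, -1, 0], ![2, 2, 3, 4, 3, 2, 1]]

noncomputable def c4 : CoxeterMatrix.E₇.Group := c2 * c2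

theorem is_c4 (hp : IsType chevE7 7 CoxeterMatrix.E₇) : IsMat hp c4 c4M :=
  (is_c2 hp).mul (is_c2 hp) (by decide +kernel)

def c6M : Mat 7 :=
  ![![0, 0, 0, 0, 1, 0, 0], ![0, -1, 0, 0, 0, 0, 0], ![0, 0, 0, 0, 0, 1, 0], ![-1, 0, -1, -1, -1, -1, 0], ![1,
  0, 0, 0, 0, 0, 0], ![0, 0, 1, 0, 0, 0, 0], ![1, 2, 2, 4, 3, 2, 1]]

noncomputable def c6 : CoxeterMatrix.E₇.Group := c3 * c3

theorem is_c6 (hp : IsType chevE7 7 CoxeterMatrix.E₇) : IsMat hp c6 c6M :=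
  (is_c3 hp).mul (is_c3 hp) (by decide +kernel)

def c8M : Mat 7 :=
  ![![-1, -1, -1, -1, -1, -1, 0], ![0, -1, -1, -1, -1, 0, 0], ![0, 0, -1, -1, 0, 0, 0], ![0, 0, 1, 0, 0, 0, 0],
  ![0, 1, 0, 1, 0, 0, 0], ![1, 0, 1, 1, 1, 0, 0], ![0, 1, 1, 2, 2, 2, 1]]

noncomputable def c8 : CoxeterMatrix.E₇.Group := c4 * c4

theorem is_c8 (hp : IsType chevE7 7 CoxeterMatrix.E₇) : IsMat hp c8 c8M :=
  (is_c4 hp).mul (is_c4 hp) (by decide +kernel)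

def c9M : Mat 7 :=
  ![![0, 0, -1, -1, 0, 0, 0], ![-1, -1, -1, -2, -1, -1, 0], ![0, -1, 0, -1, -1, 0, 0], ![0, 1, 0, 1, 0, 0, 0],
  ![1, 0, 1, 1, 1, 0, 0], ![0, 1, 1, 1, 1, 1, 0], ![0, 0, 0, 1, 1, 1, 1]]

noncomputable def c9 : CoxeterMatrix.E₇.Group := c6 * c3

theorem is_c9 (hp : IsType chevE7 7 CoxeterMatrix.E₇) : IsMat hp c9 c9M :=
  (is_c6 hp).mul (is_c3 hp) (by decide +kernel)

end E7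

namespace E8

/-- the Cartan matrix -/
def Am : Mat 8 :=
  ![![2, 0, -1, 0, 0, 0, 0, 0], ![0, 2, 0, -1, 0, 0, 0, 0], ![-1, 0, 2, -1, 0, 0, 0, 0], ![0, -1, -1, 2, -1, 0,
  0, 0], ![0, 0, 0, -1, 2, -1, 0, 0], ![0, 0, 0, 0, -1, 2, -1, 0], ![0, 0, 0, 0, 0, -1, 2, -1], ![0, 0, 0, 0,
  0, 0, -1, 2]]

theorem hA : ∀ i j, Am i j = cartanOf chevE8 8 i j := by decide +kernel

def cL : List (Fin 8 × Mat 8) :=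
  [(0, ![![0, 0, 1, 0, 0, 0, 0, 0], ![1, 0, 1, 1, 0, 0, 0, 0], ![0, 1, 0, 1, 0, 0, 0, 0], ![0, 0, 0, 0, 1, 0,
  0, 0], ![0, 0, 0, 0, 0, 1, 0, 0], ![-1, -1, -1, -1, -1, -1, 0, 0], ![1, 1, 1, 1, 1, 1, 1, 0], ![0, 0, 0, 0,
  0, 0, 0, 1]]), (1, ![![1, 0, 1, 0, 0, 0, 0, 0], ![0, 0, 1, 1, 0, 0, 0, 0], ![0, 1, 0, 1, 0, 0, 0, 0], ![0, 0,
  0, 0, 1, 0, 0, 0], ![0, 0, 0, 0, 0, 1, 0, 0], ![0, -1, -1, -1, -1, -1, 0, 0], ![0, 1, 1, 1, 1, 1, 1, 0], ![0,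
  0, 0, 0, 0, 0, 0, 1]]), (2, ![![1, 0, 1, 0, 0, 0, 0, 0], ![0, 1, 1, 1, 0, 0, 0, 0], ![0, 0, 0, 1, 0, 0, 0,
  0], ![0, 0, 0, 0, 1, 0, 0, 0], ![0, 0, 0, 0, 0, 1, 0, 0], ![0, 0, -1, -1, -1, -1, 0, 0], ![0, 0, 1, 1, 1, 1,
  1, 0], ![0, 0, 0, 0, 0, 0, 0, 1]]), (3, ![![1, 0, 0, 0, 0, 0, 0, 0], ![0, 1, 0, 1, 0, 0, 0, 0], ![0, 0, 1, 1,
  0, 0, 0, 0], ![0, 0, 0, 0, 1, 0, 0, 0], ![0, 0, 0, 0, 0, 1, 0, 0], ![0, 0, 0, -1, -1, -1, 0, 0], ![0, 0, 0,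
  1, 1, 1, 1, 0], ![0, 0, 0, 0, 0, 0, 0, 1]]), (4, ![![1, 0, 0, 0, 0, 0, 0, 0], ![0, 1, 0, 0, 0, 0, 0, 0], ![0,
  0, 1, 0, 0, 0, 0, 0], ![0, 0, 0, 1, 1, 0, 0, 0], ![0, 0, 0, 0, 0, 1, 0, 0], ![0, 0, 0, 0, -1, -1, 0, 0], ![0,
  0, 0, 0, 1, 1, 1, 0], ![0, 0, 0, 0, 0, 0, 0, 1]]), (5, ![![1, 0, 0, 0, 0, 0, 0, 0], ![0, 1, 0, 0, 0, 0, 0,
  0], ![0, 0, 1, 0, 0, 0, 0, 0], ![0, 0, 0, 1, 0, 0, 0, 0], ![0, 0, 0, 0, 1, 1, 0, 0], ![0, 0, 0, 0, 0, -1, 0,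
  0], ![0, 0, 0, 0, 0, 1, 1, 0], ![0, 0, 0, 0, 0, 0, 0, 1]])]

theorem cOK : ChainOK Am cL := by decide +kernel

def c1M : Mat 8 :=
  ![![0, 0, 1, 0, 0, 0, 0, 0], ![1, 0, 1, 1, 0, 0, 0, 0], ![0, 1, 0, 1, 0, 0, 0, 0], ![0, 0, 0, 0, 1, 0, 0, 0],
  ![0, 0, 0, 0, 0, 1, 0, 0], ![-1, -1, -1, -1, -1, -1, 0, 0], ![1, 1, 1, 1, 1, 1, 1, 0], ![0, 0, 0, 0, 0, 0, 0,
  1]]

/-- the Coxeter element of the parabolic `E₆` -/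
noncomputable def c1 : CoxeterMatrix.E₈.Group := CoxeterMatrix.E₈.toCoxeterSystem.wordProd (cL.map Prod.fst)

theorem is_c1 (hp : IsType chevE8 8 CoxeterMatrix.E₈) : IsMat hp c1 c1M := by
  have h := isMat_chain hp hA cOK
  have e : hd cL = c1M := rfl
  rw [e] at h
  exact h

def c2M : Mat 8 :=
  ![![0, 1, 0, 1, 0, 0, 0, 0], ![0, 1, 1, 1, 1, 0, 0, 0], ![1, 0, 1, 1, 1, 0, 0, 0], ![0, 0, 0, 0, 0, 1, 0, 0],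
  ![-1, -1, -1, -1, -1, -1, 0, 0], ![0, 0, -1, -1, 0, 0, 0, 0], ![1, 1, 2, 2, 1, 1, 1, 0], ![0, 0, 0, 0, 0, 0,
  0, 1]]

noncomputable def c2 : CoxeterMatrix.E₈.Group := c1 * c1

theorem is_c2 (hp : IsType chevE8 8 CoxeterMatrix.E₈) : IsMat hp c2 c2M :=
  (is_c1 hp).mul (is_c1 hp) (by decide +kernel)

def c3M : Mat 8 :=
  ![![1, 0, 1, 1, 1, 0, 0, 0], ![1, 1, 1, 2, 1, 1, 0, 0], ![0, 1, 1, 1, 1, 1, 0, 0], ![-1, -1, -1, -1, -1, -1,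
  0, 0], ![0, 0, -1, -1, 0, 0, 0, 0], ![0, -1, 0, -1, -1, 0, 0, 0], ![1, 2, 2, 3, 2, 1, 1, 0], ![0, 0, 0, 0, 0,
  0, 0, 1]]

noncomputable def c3 : CoxeterMatrix.E₈.Group := c2 * c1

theorem is_c3 (hp : IsType chevE8 8 CoxeterMatrix.E₈) : IsMat hp c3 c3M :=
  (is_c2 hp).mul (is_c1 hp) (by decide +kernel)

def c4M : Mat 8 :=
  ![![0, 1, 1, 1, 1, 1, 0, 0], ![0, 0, 1, 1, 1, 0, 0, 0], ![0, 0, 0, 1, 0, 0, 0, 0], ![0, 0, -1, -1, 0, 0, 0,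
  0], ![0, -1, 0, -1, -1, 0, 0, 0], ![-1, 0, -1, -1, -1, -1, 0, 0], ![2, 2, 3, 4, 3, 2, 1, 0], ![0, 0, 0, 0, 0,
  0, 0, 1]]

noncomputable def c4 : CoxeterMatrix.E₈.Group := c2 * c2

theorem is_c4 (hp : IsType chevE8 8 CoxeterMatrix.E₈) : IsMat hp c4 c4M :=
  (is_c2 hp).mul (is_c2 hp) (by decide +kernel)

def c6M : Mat 8 :=
  ![![0, 0, 0, 0, 1, 0, 0, 0], ![0, -1, 0, 0, 0, 0, 0, 0], ![0, 0, 0, 0, 0, 1, 0, 0], ![-1, 0, -1, -1, -1, -1,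
  0, 0], ![1, 0, 0, 0, 0, 0, 0, 0], ![0, 0, 1, 0, 0, 0, 0, 0], ![1, 2, 2, 4, 3, 2, 1, 0], ![0, 0, 0, 0, 0, 0,
  0, 1]]

noncomputable def c6 : CoxeterMatrix.E₈.Group := c3 * c3

theorem is_c6 (hp : IsType chevE8 8 CoxeterMatrix.E₈) : IsMat hp c6 c6M :=
  (is_c3 hp).mul (is_c3 hp) (by decide +kernel)

def c8M : Mat 8 :=
  ![![-1, -1, -1, -1, -1, -1, 0, 0], ![0, -1, -1, -1, -1, 0, 0, 0], ![0, 0, -1, -1, 0, 0, 0, 0], ![0, 0, 1, 0,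
  0, 0, 0, 0], ![0, 1, 0, 1, 0, 0, 0, 0], ![1, 0, 1, 1, 1, 0, 0, 0], ![0, 1, 1, 2, 2, 2, 1, 0], ![0, 0, 0, 0,
  0, 0, 0, 1]]

noncomputable def c8 : CoxeterMatrix.E₈.Group := c4 * c4

theorem is_c8 (hp : IsType chevE8 8 CoxeterMatrix.E₈) : IsMat hp c8 c8M :=
  (is_c4 hp).mul (is_c4 hp) (by decide +kernel)

def c9M : Mat 8 :=
  ![![0, 0, -1, -1, 0, 0, 0, 0], ![-1, -1, -1, -2, -1, -1, 0, 0], ![0, -1, 0, -1, -1, 0, 0, 0], ![0, 1, 0, 1,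
  0, 0, 0, 0], ![1, 0, 1, 1, 1, 0, 0, 0], ![0, 1, 1, 1, 1, 1, 0, 0], ![0, 0, 0, 1, 1, 1, 1, 0], ![0, 0, 0, 0,
  0, 0, 0, 1]]

noncomputable def c9 : CoxeterMatrix.E₈.Group := c6 * c3

theorem is_c9 (hp : IsType chevE8 8 CoxeterMatrix.E₈) : IsMat hp c9 c9M :=
  (is_c6 hp).mul (is_c3 hp) (by decide +kernel)

end E8

end Cfsg.Agent.H169.RM
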