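import Cfsg.Agent.H169.RM.CenB
import Cfsg.Agent.H169.RM.WPow
import Cfsg.Agent.H169.RM.TabE6
import Cfsg.Agent.H169.RM.TabE7
import Cfsg.Agent.H169.RM.TabE7b
import Cfsg.Agent.H169.RM.TabE8

/-!
# S3849: `CenB 5` for `E₆, ²E₆, E₇`, `CenB 7` for `E₇, E₈` (helper169)
-/

set_option autoImplicit false
set_option linter.unusedSectionVars false

namespace Cfsg.Agent.H169.RM

open CoxeterSystem Cfsg Cfsg.Lie Cfsg.Lie.ChevalleyDatum
open Cfsg.Agent.ChevalleyStructure Cfsg.Agent.ChevalleyStructure.Elts Cfsg.Agent.ChevalleyStructure.CoxeterGeom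
  Cfsg.Agent.ChevalleyStructure.CoxeterGeomTypes Cfsg.Agent.ChevalleyStructure.NPerm
open Cfsg.Agent.Tits.Roots Cfsg.Agent.Tits.Core Cfsg.Agent.Nodes Cfsg.Agent.Nodes.Reps Cfsg.Agent.Nodes.BNOf
  Cfsg.Agent.Nodes.RGDChev Cfsg.Agent.Nodes.Bruhat
open Cfsg.Agent.KFacts.RgdField Cfsg.Agent.KFacts.RgdChevCoord Cfsg.Agent.BpExc.TorCent Cfsg.Agent.BpExc.TorChev
open Cfsg.Agent.GpExc.Field Cfsg.Agent.BpExc.Tow Cfsg.Agent.BpExc.TowChev Cfsg.Agent.BpExc.Fr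
  Cfsg.Agent.BpExc.LangFr Cfsg.Agent.H129.TorusChar Cfsg.Agent.H129.TorusMain Cfsg.Agent.H123.ExcZ
open Cfsg.Agent.BpExc Cfsg.Agent.H795.LangT Cfsg.Agent.H795.Core Cfsg.Agent.H795.NotAbT
open Cfsg.Agent.H572.ExcA Cfsg.Agent.H572.ExcB Cfsg.Agent.H572.ExcC Cfsg.Agent.H572.ExcD Cfsg.Agent.H572.LatQ
  Cfsg.Agent.H572.LatForm Cfsg.Agent.H572.ExcE Cfsg.Agent.H572.ExcF
open Cfsg.Agent.H565.CharCnt Cfsg.Agent.H167.RV Cfsg.Agent.H795.Untw
open Cfsg.Agent.BpExc.RowsUntw Cfsg.Agent.H720.TwFr Cfsg.Agent.H795.NotAbRows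
open Cfsg.Agent.H129.WData Cfsg.Agent.H795.NotAbCert Cfsg.Agent.H512.LinFour.IdealF
open Subgroup

universe u v

section

variable {D : ChevalleyDatum} {l : ℕ} {M : CoxeterMatrix (Fin l)} {hp : IsType D l M}

theorem hN_of_mat {w : M.Group} {U : Mat l} (hU : IsMat hp w U) {m : ℕ} {Nf : Fin m → Fin l → ℤ} {s : ℕ} {q0 : ℤ}
    (h : ∀ j i, (s : ℤ) ∣ (∑ n, Nf j n * U i n) - q0 * Nf j i) (j : Fin m) (x : Fin l → ℤ) :
    (s : ℤ) ∣ (∑ i, Nf j i * (rep M.toCoxeterSystem hp.isCartan w x) i) - q0 * ∑ i, Nf j i * x i := by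
  have h1 : (∑ i, Nf j i * (rep M.toCoxeterSystem hp.isCartan w x) i) - q0 * ∑ i, Nf j i * x i =
      ∑ n, x n * ((∑ i, Nf j i * U n i) - q0 * Nf j n) := by
    simp only [hU.apply, Finset.mul_sum, mul_sub, Finset.sum_sub_distrib]
    congr 1
    · rw [Finset.sum_comm]
      exact Finset.sum_congr rfl fun n _ => Finset.sum_congr rfl fun i _ => by ring
    · exact Finset.sum_congr rfl fun n _ => by ring
  rw [h1]
  exact Finset.dvd_sum fun n _ => (h j n).mul_left _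

/-- change of the sign and of the multiplier -/
theorem hN_change {w : M.Group} {θ : (Fin l → ℤ) → (Fin l → ℤ)} {ε : ℤ}
    (hθ : ∀ x, θ x = ε • rep M.toCoxeterSystem hp.isCartan w x) {m : ℕ} {Nf : Fin m → Fin l → ℤ} {s : ℕ} {q0 q : ℤ}
    (h : ∀ j x, (s : ℤ) ∣ (∑ i, Nf j i * (rep M.toCoxeterSystem hp.isCartan w x) i) - q0 * ∑ i, Nf j i * x i)
    (hq : (s : ℤ) ∣ q - ε * q0) (j : Fin m) (x : Fin l → ℤ) :
    (s : ℤ) ∣ (∑ i, Nf j i * (θ x) i) - q * ∑ i, Nf j i * x i := by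
  obtain ⟨a, ha⟩ := h j x
  obtain ⟨b, hb⟩ := hq
  have h1 : ∑ i, Nf j i * (θ x) i = ε * ∑ i, Nf j i * (rep M.toCoxeterSystem hp.isCartan w x) i := by
    rw [Finset.mul_sum]
    refine Finset.sum_congr rfl fun i _ => ?_
    rw [hθ, Pi.smul_apply, smul_eq_mul]
    ring
  rw [h1]
  refine ⟨ε * a - b * ∑ i, Nf j i * x i, ?_⟩
  linear_combination ε * ha - (∑ i, Nf j i * x i) * hb

/-- **untwisted groups** -/
theorem cenB_untw (hp : IsType D l M) {F : Type u} [Field F] [Fintype F] {p : ℕ} [CharP F p] {d : ℕ}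
    {Bi : Fin l → Fin l → ℤ} (hB : InvC D l d Bi) (hd : d ≠ 0) (hd1 : d = 1 ∨ d.Prime) {s : ℕ} [hs : Fact s.Prime]
    (hsd : ¬ s ∣ d) (hsF : (s : F) ≠ 0) (L : Lac D) {m : ℕ} (Nf : Fin m → Fin l → ℤ) (w : M.Group)
    (hN : ∀ j x, (s : ℤ) ∣ (∑ i, Nf j i * (rep M.toCoxeterSystem hp.isCartan w x) i) -
      (Fintype.card F : ℤ) * ∑ i, Nf j i * x i) (K : ChkF D l s (fun j b => ∑ i, Nf j i * vec D l b i))
    (h1 : ∃ j, ∃ b < D.nroots, ¬ (s : ℤ) ∣ ∑ i, Nf j i * vec D l b i) : CenB s p ↥(D.group F) := by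
  have hGf : Finite ↥(D.group F) := inferInstance
  obtain ⟨r, n, hr, hrF, hrk, he, hqF, hk⟩ := Cfsg.Agent.H129.TorusUntw.exists_closure (F := F) rfl
  have hrp : p = r := CharP.eq F ‹_› hrF
  subst hrp
  have hsr : s ≠ p := by
    rintro rfl
    exact hsF (CharP.cast_eq_zero F s)
  have hset := setup_untw hp (p := s) hk (algebraMap F (AlgebraicClosure F)) he hqF hB hd hd1 hsd
  obtain ⟨κ, τ, z, hEm, hκ, hb⟩ := exists_emb (hp := hp) hk hset.inj he hset.frob hset.fr hset.fix hset.fin w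
  refine cenB_fun hk hEm hB hd (Cfsg.Agent.H167.RM.mem_of_setup hset hκ hb) hsr L Nf (fun j x => ?_) K h1
  have h2 := hN j x
  rw [hqF] at h2
  push_cast at h2
  exact h2

end

theorem lac_E6' : Lac chevE6 := ⟨by simp, by decide +kernel, by decide +kernel⟩
theorem lac_E7' : Lac chevE7 := ⟨by simp, by decide +kernel, by decide +kernel⟩
theorem lac_E8' : Lac chevE8 := ⟨by simp, by decide +kernel, by decide +kernel⟩

section Untw

variable {F : Type u} [Field F] [Fintype F] {p : ℕ} [CharP F p]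

theorem not_dvd_card {s : ℕ} (hs : s.Prime) (hsF : (s : F) ≠ 0) : ¬ (s : ℤ) ∣ (Fintype.card F : ℤ) := by
  intro h
  have h1 : s ∣ Fintype.card F := by exact_mod_cast h
  obtain ⟨r, n, hr, hrF, -, -, hqF, -⟩ := Cfsg.Agent.H129.TorusUntw.exists_closure (F := F) rfl
  rw [hqF] at h1
  have h2 := (Nat.prime_dvd_prime_iff_eq hs hr.out).1 (hs.dvd_of_dvd_pow h1)
  subst h2
  exact hsF (CharP.cast_eq_zero F s)

/-- **`E₆(q)`, `s = 5`, all `q`** -/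
theorem cenB_e6_five (h5F : (5 : F) ≠ 0) : CenB 5 p ↥(chevE6.group F) := by
  have : Fact (Nat.Prime 5) := ⟨Nat.prime_five⟩
  have h5 : ¬ (5 : ℤ) ∣ (Fintype.card F : ℤ) := by
    exact_mod_cast not_dvd_card (F := F) Nat.prime_five (by exact_mod_cast h5F)
  have main : ∀ {w : CoxeterMatrix.E₆.Group} {U : Mat 6} {q0 : ℤ}, IsMat e6T w U →
      (∀ j i, ((5 : ℕ) : ℤ) ∣ (∑ n, Nf65 j n * U i n) - q0 * Nf65 j i) → (5 : ℤ) ∣ (Fintype.card F : ℤ) - 1 * q0 →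
      CenB 5 p ↥(chevE6.group F) := by
    intro w U q0 hU h1 h2
    exact cenB_untw e6T invC_E6 three_ne_zero (Or.inr Nat.prime_three) (by norm_num) (by exact_mod_cast h5F) lac_E6'
      Nf65 w (hN_change (hp := e6T) (θ := fun x => rep CoxeterMatrix.E₆.toCoxeterSystem e6T.isCartan w x) (ε := 1)
        (fun x => (one_smul ℤ _).symm) (hN_of_mat hU h1) h2) chkF_65 (by decide +kernel)
  have hc : (5 : ℤ) ∣ (Fintype.card F : ℤ) - 1 * 1 ∨ (5 : ℤ) ∣ (Fintype.card F : ℤ) - 1 * 2 ∨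
      (5 : ℤ) ∣ (Fintype.card F : ℤ) - 1 * 3 ∨ (5 : ℤ) ∣ (Fintype.card F : ℤ) - 1 * 4 := by omega
  rcases hc with h | h | h | h
  · exact main isMat_one (by decide +kernel) h
  · exact main (E6.is_c3 e6T) (by decide +kernel) h
  · exact main (E6.is_c9 e6T) (by decide +kernel) h
  · exact main (E6.is_c6 e6T) (by decide +kernel) h

/-- **`E₇(q)`, `s = 5`, all `q`** -/
theorem cenB_e7_five (h5F : (5 : F) ≠ 0) : CenB 5 p ↥(chevE7.group F) := by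
  have : Fact (Nat.Prime 5) := ⟨Nat.prime_five⟩
  have h5 : ¬ (5 : ℤ) ∣ (Fintype.card F : ℤ) := by
    exact_mod_cast not_dvd_card (F := F) Nat.prime_five (by exact_mod_cast h5F)
  have main : ∀ {w : CoxeterMatrix.E₇.Group} {U : Mat 7} {q0 : ℤ}, IsMat e7T w U →
      (∀ j i, ((5 : ℕ) : ℤ) ∣ (∑ n, Nf75 j n * U i n) - q0 * Nf75 j i) → (5 : ℤ) ∣ (Fintype.card F : ℤ) - 1 * q0 →
      CenB 5 p ↥(chevE7.group F) := by
    intro w U q0 hU h1 h2
    exact cenB_untw e7T invC_E7 two_ne_zero (Or.inr Nat.prime_two) (by norm_num) (by exact_mod_cast h5F) lac_E7'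
      Nf75 w (hN_change (hp := e7T) (θ := fun x => rep CoxeterMatrix.E₇.toCoxeterSystem e7T.isCartan w x) (ε := 1)
        (fun x => (one_smul ℤ _).symm) (hN_of_mat hU h1) h2) chkF_75 (by decide +kernel)
  have hc : (5 : ℤ) ∣ (Fintype.card F : ℤ) - 1 * 1 ∨ (5 : ℤ) ∣ (Fintype.card F : ℤ) - 1 * 2 ∨
      (5 : ℤ) ∣ (Fintype.card F : ℤ) - 1 * 3 ∨ (5 : ℤ) ∣ (Fintype.card F : ℤ) - 1 * 4 := by omega
  rcases hc with h | h | h | h
  · exact main isMat_one (by decide +kernel) h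
  · exact main (E7.is_c3 e7T) (by decide +kernel) h
  · exact main (E7.is_c9 e7T) (by decide +kernel) h
  · exact main (E7.is_c6 e7T) (by decide +kernel) h

theorem cases_seven {q : ℤ} (h : ¬ (7 : ℤ) ∣ q) : ∃ ε : ℤ, (ε = 1 ∨ ε = -1) ∧
    ((7 : ℤ) ∣ q - ε * 1 ∨ (7 : ℤ) ∣ q - ε * 2 ∨ (7 : ℤ) ∣ q - ε * 4) := by
  have h1 : q % 7 = 1 ∨ q % 7 = 2 ∨ q % 7 = 4 ∨ q % 7 = 3 ∨ q % 7 = 5 ∨ q % 7 = 6 := by omega
  rcases h1 with h1 | h1 | h1 | h1 | h1 | h1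
  · exact ⟨1, Or.inl rfl, by omega⟩
  · exact ⟨1, Or.inl rfl, by omega⟩
  · exact ⟨1, Or.inl rfl, by omega⟩
  · exact ⟨-1, Or.inr rfl, by omega⟩
  · exact ⟨-1, Or.inr rfl, by omega⟩
  · exact ⟨-1, Or.inr rfl, by omega⟩

/-- **`E₇(q)`, `s = 7`, all `q`** -/
theorem cenB_e7_seven (h7F : (7 : F) ≠ 0) : CenB 7 p ↥(chevE7.group F) := by
  have h7p : Nat.Prime 7 := by norm_num
  have : Fact (Nat.Prime 7) := ⟨h7p⟩
  have h7 : ¬ (7 : ℤ) ∣ (Fintype.card F : ℤ) := by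
    exact_mod_cast not_dvd_card (F := F) h7p (by exact_mod_cast h7F)
  obtain ⟨ε, hε, hc⟩ := cases_seven h7
  obtain ⟨v, hv⟩ := exists_w e7T negE7 hε
  have main : ∀ {w : CoxeterMatrix.E₇.Group} {U : Mat 7} {q0 : ℤ}, IsMat e7T w U →
      (∀ j i, ((7 : ℕ) : ℤ) ∣ (∑ n, Nf77 j n * U i n) - q0 * Nf77 j i) → (7 : ℤ) ∣ (Fintype.card F : ℤ) - ε * q0 →
      CenB 7 p ↥(chevE7.group F) := by
    intro w U q0 hU h1 h2
    exact cenB_untw e7T invC_E7 two_ne_zero (Or.inr Nat.prime_two) (by norm_num) (by exact_mod_cast h7F) lac_E7'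
      Nf77 (v * w) (hN_change (hp := e7T) (θ := fun x => rep CoxeterMatrix.E₇.toCoxeterSystem e7T.isCartan (v * w) x) (ε := ε)
        (fun x => by rw [rep_mul_apply, hv]) (hN_of_mat hU h1) h2) chkF_77 (by decide +kernel)
  rcases hc with h | h | h
  · exact main isMat_one (by decide +kernel) h
  · exact main (E7.is_c4 e7T) (by decide +kernel) h
  · exact main (E7.is_c8 e7T) (by decide +kernel) h

/-- **`E₈(q)`, `s = 7`, all `q`** -/
theorem cenB_e8_seven (h7F : (7 : F) ≠ 0) : CenB 7 p ↥(chevE8.group F) := by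
  have h7p : Nat.Prime 7 := by norm_num
  have : Fact (Nat.Prime 7) := ⟨h7p⟩
  have h7 : ¬ (7 : ℤ) ∣ (Fintype.card F : ℤ) := by
    exact_mod_cast not_dvd_card (F := F) h7p (by exact_mod_cast h7F)
  obtain ⟨ε, hε, hc⟩ := cases_seven h7
  obtain ⟨v, hv⟩ := exists_w e8T negE8 hε
  have main : ∀ {w : CoxeterMatrix.E₈.Group} {U : Mat 8} {q0 : ℤ}, IsMat e8T w U →
      (∀ j i, ((7 : ℕ) : ℤ) ∣ (∑ n, Nf87 j n * U i n) - q0 * Nf87 j i) → (7 : ℤ) ∣ (Fintype.card F : ℤ) - ε * q0 →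
      CenB 7 p ↥(chevE8.group F) := by
    intro w U q0 hU h1 h2
    exact cenB_untw e8T invC_E8 one_ne_zero (Or.inl rfl) (by norm_num) (by exact_mod_cast h7F) lac_E8'
      Nf87 (v * w) (hN_change (hp := e8T) (θ := fun x => rep CoxeterMatrix.E₈.toCoxeterSystem e8T.isCartan (v * w) x) (ε := ε)
        (fun x => by rw [rep_mul_apply, hv]) (hN_of_mat hU h1) h2) chkF_87 (by decide +kernel)
  rcases hc with h | h | h
  · exact main isMat_one (by decide +kernel) h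
  · exact main (E8.is_c4 e8T) (by decide +kernel) h
  · exact main (E8.is_c8 e8T) (by decide +kernel) h

end Untw

section Tw

variable {K : Type u} [Field K] [Fintype K] {p : ℕ} [CharP K p] {q : ℕ} (hq : IsPrimePow q)

include hq

set_option maxRecDepth 100000 in
/-- **`²E₆(q)`, `s = 5`, all `q`** -/
theorem cenB_2E6_five (h5F : (5 : K) ≠ 0) (hF : Fintype.card K = q ^ 2) : CenB 5 p ↥(twistedE6 K q) := by
  have hG : Finite ↥(twistedE6 K q) := inferInstance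
  have h5q : ¬ (5 : ℤ) ∣ (q : ℤ) := by
    intro h
    apply not_dvd_card (F := K) Nat.prime_five (by exact_mod_cast h5F)
    rw [hF]
    push_cast
    exact dvd_pow h two_ne_zero
  obtain ⟨r, n, hr, hrF, hrk, hn0, hn, hk⟩ := Cfsg.Agent.H795.Tw.exists_closure_q two_ne_zero hq hF
  have hrp : p = r := CharP.eq K ‹_› hrF
  subst hrp
  have hpr : 5 ≠ p := by
    rintro rfl
    exact h5F (by exact_mod_cast CharP.cast_eq_zero K 5)
  have : Fact (Nat.Prime 5) := ⟨by norm_num⟩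
  have hset := Cfsg.Agent.H795.Tw.setup_six (algebraMap K (AlgebraicClosure K)) p hk hn0 hn hF (p := 5) (by norm_num)
  have hθ0 : ∀ x, rep CoxeterMatrix.E₆.toCoxeterSystem hp6.isCartan Cfsg.Agent.H795.NotAbData.E6.c6
      (permE rho6 x) = (-1 : ℤ) • x :=
    eps_of_mat (hp := Cfsg.Agent.H720.TwFr.hp6) (g := permE rho6) (w := Cfsg.Agent.H795.NotAbData.E6.c6)
      (U := Cfsg.Agent.H795.NotAbData.E6.c6M) (ε := -1) perm6_mat
      (Cfsg.Agent.H795.NotAbData.E6.is_c6 Cfsg.Agent.H720.TwFr.hp6) (by decide +kernel)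
  have main : ∀ {w : CoxeterMatrix.E₆.Group} {U : Mat 6} {q0 : ℤ}, IsMat hp6 w U →
      (∀ j i, ((5 : ℕ) : ℤ) ∣ (∑ n, Nf65 j n * U i n) - q0 * Nf65 j i) → (5 : ℤ) ∣ (q : ℤ) - (-1) * q0 →
      CenB 5 p ↥(twistedE6 K q) := by
    intro w U q0 hU h1 h2
    obtain ⟨κ, τ, z, hEm, hκ, hb⟩ := exists_emb (hp := hp6) hk hset.inj hn0 hset.frob hset.fr hset.fix hset.fin
      (w * Cfsg.Agent.H795.NotAbData.E6.c6)
    refine cenB_fun hk hEm invC_E6 three_ne_zero (Cfsg.Agent.H167.RM.mem_of_setup hset hκ hb) hpr lac_E6' Nf65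
      (hN_change (hp := hp6) (w := w) (ε := -1) (fun x => ?_) (hN_of_mat hU h1) ?_) chkF_65 (by decide +kernel)
    · show rep CoxeterMatrix.E₆.toCoxeterSystem hp6.isCartan (w * Cfsg.Agent.H795.NotAbData.E6.c6) (permE rho6 x) = _
      rw [rep_mul_apply, hθ0, map_smul]
    · have h3 : ((p : ℤ) ^ n) = (q : ℤ) := by rw [hn]; push_cast; rfl
      rw [h3]
      exact_mod_cast h2
  have hc : (5 : ℤ) ∣ (q : ℤ) - (-1) * 1 ∨ (5 : ℤ) ∣ (q : ℤ) - (-1) * 2 ∨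
      (5 : ℤ) ∣ (q : ℤ) - (-1) * 3 ∨ (5 : ℤ) ∣ (q : ℤ) - (-1) * 4 := by omega
  rcases hc with h | h | h | h
  · exact main isMat_one (by decide +kernel) h
  · exact main (E6.is_c3 hp6) (by decide +kernel) h
  · exact main (E6.is_c9 hp6) (by decide +kernel) h
  · exact main (E6.is_c6 hp6) (by decide +kernel) h

end Tw

end Cfsg.Agent.H169.RM
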